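import Mathlib
import Cfsg.Agent.Lib.Order7920.Three

/-!
A simple group of order 7920: an involution inverting a Sylow 3-subgroup, and the three Sylow
3-subgroups it inverts.
-/

set_option autoImplicit false
set_option linter.style.haveILetI false

namespace Cfsg.Agent.Lib.Recog7920

open Subgroup MulAction Cfsg Cfsg.Agent.Lib.SmallGroups Cfsg.Agent.Lib.Order7920
open scoped Pointwise

universe u

variable {G : Type u} [Group G] [Finite G]

theorem smul_sylow_eq_iff {p : ℕ} (g : G) (P : Sylow p G) :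
    g • P = P ↔ g ∈ normalizer ((P : Subgroup G) : Set G) :=
  Sylow.smul_eq_iff_mem_normalizer

theorem conj_mem_smul {p : ℕ} (g : G) (P : Sylow p G) {x : G} (hx : x ∈ (P : Subgroup G)) :
    g * x * g⁻¹ ∈ ((g • P : Sylow p G) : Subgroup G) := by
  rw [Sylow.coe_subgroup_smul]
  exact Subgroup.smul_mem_pointwise_smul x (MulAut.conj g) _ hx

theorem conj_mem_of_fix {p : ℕ} {g : G} {P : Sylow p G} (h : g • P = P) {x : G}
    (hx : x ∈ (P : Subgroup G)) : g * x * g⁻¹ ∈ (P : Subgroup G) :=
  (mem_normalizer_iff.mp ((smul_sylow_eq_iff g P).mp h) x).mp hx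

section

variable [Fact (Nat.Prime 3)]

theorem pow_three (hG : IsM11 G) {x : G} {P : Sylow 3 G} (hx : x ∈ (P : Subgroup G)) :
    x ∈ (P : Subgroup G) ∧ x ^ 9 = 1 := by
  refine ⟨hx, orderOf_dvd_iff_pow_eq_one.mp ?_⟩
  have := Subgroup.orderOf_dvd_natCard _ hx
  rwa [card_sylow_three_eq hG P] at this

theorem commute_sylow (hG : IsM11 G) {P : Sylow 3 G} {x y : G} (hx : x ∈ (P : Subgroup G))
    (hy : y ∈ (P : Subgroup G)) : Commute x y :=
  commute_of_card_nine (card_sylow_three_eq hG P) hx hy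

/-- A `3`-element of `P` fixing a Sylow subgroup lies in it. -/
theorem mem_of_fix {P Q : Sylow 3 G} {x : G} (hx : x ∈ (P : Subgroup G)) (h : x • Q = Q) :
    x ∈ (Q : Subgroup G) := by
  have h1 : x ∈ (P : Subgroup G) ⊓ normalizer ((Q : Subgroup G) : Set G) :=
    ⟨hx, (smul_sylow_eq_iff x Q).mp h⟩
  exact ((P.isPGroup'.inf_normalizer_sylow Q).le h1).2

end

/-- Two commuting elements of order three cannot both centralize an involution independently. -/
theorem mem_zpowers_of_commute (hG : IsM11 G) {v a b : G} (hv : orderOf v = 2)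
    (ha : orderOf a = 3) (hb : orderOf b = 3) (hav : Commute a v) (hbv : Commute b v)
    (hab : Commute a b) : b ∈ zpowers a := by
  by_contra h
  have hle : zpowers a ⊔ zpowers b ≤ centralizer ({v} : Set G) :=
    sup_le (zpowers_le.mpr (mem_centralizer_singleton_iff.mpr hav.eq))
      (zpowers_le.mpr (mem_centralizer_singleton_iff.mpr hbv.eq))
  have hd := card_dvd_of_le hle
  rw [card_sup_three hG ha hb hab h, card_centralizer_involution hG hv] at hd
  norm_num at hd

/-- An involution inverting a Sylow `3`-subgroup. -/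
structure Setup (G : Type u) [Group G] [Fact (Nat.Prime 3)] where
  z : G
  P : Sylow 3 G
  hG : IsM11 G
  hz : orderOf z = 2
  hinv : ∀ x ∈ (P : Subgroup G), z * x * z⁻¹ = x⁻¹
  hW : Nat.card (centralizer ({z} : Set G) ⊓ normalizer ((P : Subgroup G) : Set G) :
    Subgroup G) = 16

variable [Fact (Nat.Prime 3)]

/-- A `2`-element normalizing `P` and centralizing it is trivial. -/
theorem eq_one_of_centralizes (hG : IsM11 G) (P : Sylow 3 G) {g : G} (h16 : g ^ 16 = 1)
    (hc : ∀ x ∈ (P : Subgroup G), Commute g x) : g = 1 := by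
  by_contra hg
  have hd : orderOf g ∣ 2 ^ 4 := orderOf_dvd_of_pow_eq_one h16
  obtain ⟨j, -, hj⟩ := (Nat.dvd_prime_pow Nat.prime_two).mp hd
  have hj0 : j ≠ 0 := fun h => hg (orderOf_eq_one_iff.mp (by rw [hj, h, pow_zero]))
  set u := g ^ 2 ^ (j - 1)
  have hu : orderOf u = 2 := by
    rw [orderOf_pow' _ (pow_ne_zero _ two_ne_zero), hj,
      Nat.gcd_eq_right (pow_dvd_pow 2 (Nat.sub_le j 1)), Nat.pow_div (Nat.sub_le j 1) two_pos]
    rw [show j - (j - 1) = 1 by omega, pow_one]
  have hle : (P : Subgroup G) ≤ centralizer ({u} : Set G) := fun x hx =>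
    mem_centralizer_singleton_iff.mpr ((hc x hx).pow_left _).eq.symm
  have := card_dvd_of_le hle
  rw [card_sylow_three_eq hG P, card_centralizer_involution hG hu] at this
  norm_num at this

/-- Sylow `3`-subgroups have exponent three. -/
theorem orderOf_eq_three (hG : IsM11 G) {P : Sylow 3 G} {x : G} (hx : x ∈ (P : Subgroup G))
    (hx1 : x ≠ 1) : orderOf x = 3 := by
  have h9 := Subgroup.orderOf_dvd_natCard _ hx
  rw [card_sylow_three_eq hG P] at h9
  obtain ⟨j, hj2, hj⟩ := (Nat.dvd_prime_pow Nat.prime_three).mp (show orderOf x ∣ 3 ^ 2 from h9)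
  interval_cases j
  · exact absurd (orderOf_eq_one_iff.mp (by simpa using hj)) hx1
  · simpa using hj
  · exfalso
    have hgen : (P : Subgroup G) = zpowers x :=
      (Subgroup.eq_of_le_of_card_ge (zpowers_le.mpr hx)
        (by rw [card_sylow_three_eq hG P, Nat.card_zpowers, hj]; norm_num)).symm
    haveI : IsCyclic (P : Subgroup G) := hgen ▸ Subgroup.isCyclic_zpowers x
    haveI : Fact (Nat.Prime 2) := ⟨Nat.prime_two⟩
    set N := normalizer ((P : Subgroup G) : Set G)
    have hN : Nat.card N = 144 := card_normalizer_sylow_three hG P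
    obtain ⟨S⟩ : Nonempty (Sylow 2 N) := inferInstance
    have hS : Nat.card (S : Subgroup N) = 16 := by
      rw [card_sylow_eq S (k := 4) (m := 9) (by rw [hN]; norm_num) (by norm_num)]
      norm_num
    let f : (S : Subgroup N) →* MulAut (P : Subgroup G) :=
      (P : Subgroup G).normalizerMonoidHom.comp (S : Subgroup N).subtype
    have hf : Function.Injective f := by
      refine (injective_iff_map_eq_one f).mpr fun w hw => ?_
      have h16 : ((w : N) : G) ^ 16 = 1 := by
        have := orderOf_dvd_iff_pow_eq_one.mp (hS ▸ _root_.orderOf_dvd_natCard w)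
        simpa using congrArg (fun v : (S : Subgroup N) => ((v : N) : G)) this
      refine Subtype.ext (Subtype.ext (eq_one_of_centralizes hG P h16 fun y hy => ?_))
      have := congrArg Subtype.val (DFunLike.congr_fun hw ⟨y, hy⟩)
      exact mul_inv_eq_iff_eq_mul.mp this
    have := card_dvd_of_injective f hf
    rw [hS, IsCyclic.card_mulAut, card_sylow_three_eq hG P,
      show Nat.totient 9 = 6 by decide] at this
    norm_num at this

/-- Two non-trivial `2`-elements normalizing `P` and fixing the same non-trivial element agree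
modulo the centralizer of `P`. -/
theorem eq_of_fix (hG : IsM11 G) (P : Sylow 3 G) {W : Subgroup G} (hW16 : Nat.card W = 16)
    (hWn : ∀ w ∈ W, w • P = P) {g h p : G} (hg : g ∈ W) (hh : h ∈ W) (hg1 : g ≠ 1) (hh1 : h ≠ 1)
    (hp : p ∈ (P : Subgroup G)) (hp1 : p ≠ 1) (hgp : Commute g p) (hhp : Commute h p) : g = h := by
  have h16 : ∀ w ∈ W, w ^ 16 = 1 := fun w hw => orderOf_dvd_iff_pow_eq_one.mp
    (hW16 ▸ Subgroup.orderOf_dvd_natCard _ hw)
  have hord : ∀ x ∈ (P : Subgroup G), x ≠ 1 → orderOf x = 3 := fun x hx hx1 =>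
    orderOf_eq_three hG hx hx1
  -- a second generator
  obtain ⟨q, hq, hqp⟩ : ∃ q ∈ (P : Subgroup G), q ∉ zpowers p := by
    by_contra hc
    push Not at hc
    have := Subgroup.card_le_of_le (show (P : Subgroup G) ≤ zpowers p from hc)
    rw [card_sylow_three_eq hG P, Nat.card_zpowers, hord p hp hp1] at this
    omega
  have hp3 := hord p hp hp1
  have hq3 := hord q hq fun e => hqp (e ▸ one_mem _)
  have hgen : zpowers p ⊔ zpowers q = (P : Subgroup G) :=
    Subgroup.eq_of_le_of_card_ge (sup_le (zpowers_le.mpr hp) (zpowers_le.mpr hq))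
      (by rw [card_sylow_three_eq hG P, card_sup_three hG hp3 hq3 (commute_sylow hG hp hq) hqp])
  -- the action of `g` on `q` modulo `⟨p⟩`
  have hcoset : ∀ y ∈ (P : Subgroup G), y ∈ zpowers p ∨ y * q⁻¹ ∈ zpowers p ∨ y * q ∈ zpowers p := by
    intro y hy
    obtain ⟨a, b, ha, hb, rfl⟩ : ∃ a b, a ∈ zpowers p ∧ b ∈ zpowers q ∧ a * b = y := by
      have hn : zpowers p ≤ normalizer (zpowers q : Set G) := by
        refine zpowers_le.mpr (centralizer_le_normalizer _ ?_)
        rw [mem_centralizer_iff]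
        intro m hm
        obtain ⟨i, rfl⟩ := Subgroup.mem_zpowers_iff.mp hm
        exact ((commute_sylow hG hq hp).zpow_left i).eq
      have := hgen ▸ hy
      rw [← SetLike.mem_coe, coe_mul_of_left_le_normalizer_right _ _ hn] at this
      obtain ⟨a, ha, b, hb, e⟩ := Set.mem_mul.mp this
      exact ⟨a, b, ha, hb, e⟩
    rcases mem_zpowers_three hq3 hb with rfl | rfl | rfl
    · exact Or.inl (by rwa [mul_one])
    · exact Or.inr (Or.inl (by rwa [mul_inv_cancel_right]))
    · exact Or.inr (Or.inr (by rwa [inv_mul_cancel_right]))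
  have hswap : ∀ w ∈ W, w ≠ 1 → Commute w p → w * q * w⁻¹ * q ∈ zpowers p := by
    intro w hw hw1 hwp
    rcases hcoset _ (conj_mem_of_fix (hWn w hw) hq) with h0 | h0 | h0
    · exfalso
      obtain ⟨i, hi⟩ := mem_zpowers_iff.mp h0
      refine hqp (mem_zpowers_iff.mpr ⟨i, ?_⟩)
      calc p ^ i = w⁻¹ * (w * p ^ i) := by group
        _ = w⁻¹ * (p ^ i * w) := by rw [(hwp.zpow_right i).eq]
        _ = q := by rw [hi]; group
    · exfalso
      obtain ⟨i, hi⟩ := mem_zpowers_iff.mp h0
      have hc3 : ∀ n : ℕ, w ^ n * q * (w ^ n)⁻¹ = p ^ (i * n) * q := by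
        intro n
        induction n with
        | zero => simp
        | succ n ih =>
          calc w ^ (n + 1) * q * (w ^ (n + 1))⁻¹ = w * (w ^ n * q * (w ^ n)⁻¹) * w⁻¹ := by
                rw [pow_succ']; group
            _ = (w * p ^ (i * n) * w⁻¹) * (w * q * w⁻¹) := by rw [ih]; group
            _ = p ^ (i * n) * (p ^ i * q) := by
              rw [(hwp.zpow_right _).eq, mul_inv_cancel_right, hi]; group
            _ = p ^ (i * (n + 1 : ℕ)) * q := by
              rw [← mul_assoc, ← zpow_add]; push_cast; ring_nf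
      have hp16 : p ^ (i * 16) = 1 := by
        have := hc3 16
        rw [h16 w hw] at this
        simpa using this
      have hi3 : (orderOf p : ℤ) ∣ i := by
        have := orderOf_dvd_iff_zpow_eq_one.mpr hp16
        rw [hp3] at this ⊢
        push_cast at this ⊢
        omega
      rw [orderOf_dvd_iff_zpow_eq_one.mp hi3, eq_comm, mul_inv_eq_one] at hi
      refine hw1 (eq_one_of_centralizes hG P (h16 w hw) fun y hy => ?_)
      have hle : (P : Subgroup G) ≤ centralizer ({w} : Set G) := hgen ▸ sup_le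
        (zpowers_le.mpr (mem_centralizer_singleton_iff.mpr hwp.eq.symm))
        (zpowers_le.mpr (mem_centralizer_singleton_iff.mpr (mul_inv_eq_iff_eq_mul.mp hi).symm))
      exact (mem_centralizer_singleton_iff.mp (hle hy)).symm
    · exact h0
  by_contra hne
  have hgh : g⁻¹ * h ∈ W := W.mul_mem (inv_mem hg) hh
  have hgh1 : g⁻¹ * h ≠ 1 := fun e => hne (inv_mul_eq_one.mp e)
  have hghp : Commute (g⁻¹ * h) p := hgp.inv_left.mul_left hhp
  have h2 := hswap _ hgh hgh1 hghp
  obtain ⟨a, ha⟩ := mem_zpowers_iff.mp (hswap g hg hg1 hgp)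
  obtain ⟨b, hb⟩ := mem_zpowers_iff.mp (hswap h hh hh1 hhp)
  -- the product fixes `q` modulo `⟨p⟩`
  have hkey : (g⁻¹ * h) * q * (g⁻¹ * h)⁻¹ = p ^ (b - a) * q := by
    have eh : h * q * h⁻¹ = p ^ b * q⁻¹ := by rw [hb, mul_inv_cancel_right]
    have eg : g * q * g⁻¹ = p ^ a * q⁻¹ := by rw [ha, mul_inv_cancel_right]
    have eg' : g⁻¹ * q⁻¹ * g = p ^ (-a) * q := by
      calc g⁻¹ * q⁻¹ * g = g⁻¹ * (p ^ (-a) * (p ^ a * q⁻¹)) * g := by group
        _ = (g⁻¹ * p ^ (-a)) * (g * q * g⁻¹) * g := by rw [eg]; group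
        _ = p ^ (-a) * q := by rw [((hgp.inv_left).zpow_right _).eq]; group
    calc (g⁻¹ * h) * q * (g⁻¹ * h)⁻¹ = g⁻¹ * (h * q * h⁻¹) * g := by group
      _ = g⁻¹ * p ^ b * q⁻¹ * g := by rw [eh]; group
      _ = p ^ b * (g⁻¹ * q⁻¹ * g) := by rw [((hgp.inv_left).zpow_right _).eq]; group
      _ = p ^ (b - a) * q := by rw [eg', ← mul_assoc, ← zpow_add, sub_eq_add_neg]
  rw [hkey] at h2
  have hqq : q * q ∈ zpowers p := by
    rw [show q * q = (p ^ (b - a))⁻¹ * (p ^ (b - a) * q * q) by group]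
    exact (zpowers p).mul_mem (inv_mem (zpow_mem (mem_zpowers p) _)) h2
  refine hqp ?_
  have hq3' : q ^ 3 = 1 := hq3 ▸ pow_orderOf_eq_one q
  rw [show q = (q * q)⁻¹ by
    rw [eq_inv_iff_mul_eq_one, ← mul_assoc, ← pow_two, ← pow_succ, hq3']]
  exact inv_mem hqq

end Cfsg.Agent.Lib.Recog7920
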