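import Mathlib
import Cfsg.Agent.Lib.Recog7920.Local

/-!
A simple group of order 7920: the three Sylow 3-subgroups inverted by an involution, and the
subgroup of order eight fixing them.
-/

set_option autoImplicit false
set_option linter.style.haveILetI false

namespace Cfsg.Agent.Lib.Recog7920

open Subgroup MulAction Cfsg Cfsg.Agent.Lib.SmallGroups Cfsg.Agent.Lib.Order7920
open scoped Pointwise

universe u

variable {G : Type u} [Group G] [Finite G] [Fact (Nat.Prime 3)]

theorem inv_self_of_two {t : G} (ht : orderOf t = 2) : t⁻¹ = t :=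
  inv_eq_of_mul_eq_one_right (mul_self_of_two ht)

/-- Some involution inverts `P` and centralizes a Sylow 2-subgroup of its normalizer. -/
theorem exists_setup (hG : IsM11 G) (P : Sylow 3 G) : ∃ S : Setup G, S.P = P := by
  haveI : Fact (Nat.Prime 2) := ⟨Nat.prime_two⟩
  set N := normalizer ((P : Subgroup G) : Set G)
  have hN : Nat.card N = 144 := card_normalizer_sylow_three hG P
  obtain ⟨T⟩ : Nonempty (Sylow 2 N) := inferInstance
  have hT : Nat.card (T : Subgroup N) = 16 := by
    rw [card_sylow_eq T (k := 4) (m := 9) (by rw [hN]; norm_num) (by norm_num)]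
    norm_num
  haveI : Nontrivial (T : Subgroup N) := Finite.one_lt_card_iff_nontrivial.mp (by rw [hT]; norm_num)
  haveI := T.isPGroup'.center_nontrivial
  obtain ⟨n, hn⟩ := (T.isPGroup'.to_subgroup (center (T : Subgroup N))).exists_card_eq
  have h2 : 2 ∣ Nat.card (center (T : Subgroup N)) := by
    have h1 := Finite.one_lt_card (α := center (T : Subgroup N))
    rw [hn] at h1 ⊢
    exact dvd_pow_self 2 fun h => by rw [h, pow_zero] at h1; omega
  obtain ⟨c, hcZ, hc⟩ := exists_mem_orderOf 2 h2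
  set z : G := ((c : N) : G) with hzdef
  have hz : orderOf z = 2 := by rw [hzdef, Subgroup.orderOf_coe, Subgroup.orderOf_coe, hc]
  set W' : Subgroup G := (T : Subgroup N).map N.subtype
  have hW' : Nat.card W' = 16 := by
    rw [← hT]
    exact Nat.card_congr (equivMapOfInjective _ _ N.subtype_injective).symm.toEquiv
  have hWN : W' ≤ N := map_subtype_le _
  have hWz : W' ≤ centralizer ({z} : Set G) := by
    rintro w hw
    obtain ⟨a, ha, rfl⟩ := mem_map.mp hw
    exact mem_centralizer_singleton_iff.mpr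
      (congrArg (fun v : (T : Subgroup N) => ((v : N) : G)) (mem_center_iff.mp hcZ ⟨a, ha⟩))
  have hzN : z ∈ N := (c : N).2
  have hzP : z • P = P := (smul_sylow_eq_iff z P).mpr hzN
  have hzz := mul_self_of_two hz
  have hzi := inv_self_of_two hz
  have hinv : ∀ x ∈ (P : Subgroup G), z * x * z⁻¹ = x⁻¹ := by
    by_contra hc'
    push Not at hc'
    obtain ⟨x, hx, hne⟩ := hc'
    have hzx := conj_mem_of_fix hzP hx
    set y := x * (z * x * z⁻¹) with hy
    have hyP : y ∈ (P : Subgroup G) := (P : Subgroup G).mul_mem hx hzx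
    have hy1 : y ≠ 1 := fun h => hne (eq_inv_of_mul_eq_one_right h)
    have hzy : Commute z y := by
      refine mul_inv_eq_iff_eq_mul.mp ?_
      calc z * (x * (z * x * z⁻¹)) * z⁻¹ = (z * x * z⁻¹) * ((z * z) * x * (z * z)⁻¹) := by group
        _ = (z * x * z⁻¹) * x := by rw [hzz]; group
        _ = x * (z * x * z⁻¹) := (commute_sylow hG hzx hx).eq
    set R := (P : Subgroup G) ⊓ centralizer ({z} : Set G)
    have hyR : y ∈ R := ⟨hyP, mem_centralizer_singleton_iff.mpr hzy.symm.eq⟩
    have hy3 := orderOf_eq_three hG hyP hy1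
    have hR : R = zpowers y := by
      refine (Subgroup.eq_of_le_of_card_ge (zpowers_le.mpr hyR) ?_).symm
      rw [Nat.card_zpowers, hy3]
      have h9 := card_dvd_of_le (inf_le_left : R ≤ _)
      rw [card_sylow_three_eq hG P] at h9
      obtain ⟨j, hj2, hj⟩ := (Nat.dvd_prime_pow Nat.prime_three).mp (show Nat.card R ∣ 3 ^ 2 from h9)
      interval_cases j
      · rw [hj]; norm_num
      · rw [hj]; norm_num
      · exfalso
        have heq : R = (P : Subgroup G) := Subgroup.eq_of_le_of_card_ge inf_le_left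
          (by rw [hj, card_sylow_three_eq hG P]; norm_num)
        have hz1 := eq_one_of_centralizes hG P (g := z)
          (by rw [show (16 : ℕ) = 2 * 8 by norm_num, pow_mul, pow_two, hzz, one_pow])
          fun v hv => (mem_centralizer_singleton_iff.mp (heq ▸ hv : v ∈ R).2).symm
        rw [hz1, orderOf_one] at hz
        omega
    have hle := card_le_orbit_mul (N := W') (C := W' ⊓ centralizer ({y} : Set G)) (z := y)
      (S := ({y, y⁻¹} : Set G)) (fun g hg h => ⟨hg, mem_centralizer_singleton_iff.mpr h⟩)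
      (fun g hg => by
        have hmem : g * y * g⁻¹ ∈ R := by
          refine ⟨(mem_normalizer_iff.mp (hWN hg) y).mp hyP, mem_centralizer_singleton_iff.mpr ?_⟩
          have hgz : Commute g z := mem_centralizer_singleton_iff.mp (hWz hg)
          exact ((hgz.mul_left hzy.symm).mul_left hgz.inv_left).eq
        rw [hR] at hmem
        rcases mem_zpowers_three hy3 hmem with h | h | h
        · exact absurd (conj_eq_one_iff.mp h) hy1
        · exact Or.inl h
        · exact Or.inr h)
    have hS : Nat.card ({y, y⁻¹} : Set G) ≤ 2 := by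
      rw [Nat.card_coe_set_eq]
      exact (Set.ncard_insert_le _ _).trans (by rw [Set.ncard_singleton])
    have hC2 : Nat.card (W' ⊓ centralizer ({y} : Set G) : Subgroup G) ≤ 2 := by
      classical
      refine (Nat.card_le_card_of_injective (α := (W' ⊓ centralizer ({y} : Set G) : Subgroup G))
        (β := Bool) (fun g => decide ((g : G) = 1)) ?_).trans
        (by rw [Nat.card_eq_fintype_card, Fintype.card_bool])
      intro a b hab
      have hab' : ((a : G) = 1 ↔ (b : G) = 1) := decide_eq_decide.mp hab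
      refine Subtype.ext ?_
      by_cases ha : (a : G) = 1
      · rw [ha, hab'.mp ha]
      · exact eq_of_fix hG P hW' (fun w hw => (smul_sylow_eq_iff w P).mpr (hWN hw)) a.2.1 b.2.1 ha
          (fun hb => ha (hab'.mpr hb)) hyP hy1 (mem_centralizer_singleton_iff.mp a.2.2)
          (mem_centralizer_singleton_iff.mp b.2.2)
    rw [hW'] at hle
    nlinarith
  refine ⟨⟨z, P, hG, hz, hinv, ?_⟩, rfl⟩
  set W := centralizer ({z} : Set G) ⊓ normalizer ((P : Subgroup G) : Set G)
  have h16 : 16 ∣ Nat.card W := hW' ▸ card_dvd_of_le (le_inf hWz hWN)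
  have h48 : Nat.card W ∣ 48 := card_centralizer_involution hG hz ▸
    card_dvd_of_le (inf_le_left : W ≤ _)
  have h3 : ¬ 3 ∣ Nat.card W := by
    intro h
    obtain ⟨x, hx, hx3⟩ := exists_mem_orderOf 3 h
    obtain ⟨P', hP'⟩ := exists_sylow_three_mem hx3
    have hxP := mem_of_fix hP' ((smul_sylow_eq_iff x P).mpr hx.2)
    have h1 := hinv x hxP
    rw [← (mem_centralizer_singleton_iff.mp hx.1 : x * z = z * x), mul_inv_cancel_right] at h1
    have := orderOf_dvd_of_pow_eq_one (x := x) (n := 2)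
      (by rw [pow_two]; nth_rw 2 [h1]; exact mul_inv_cancel x)
    rw [hx3] at this
    omega
  obtain ⟨i, hi⟩ := h16
  rw [hi] at h48 h3 ⊢
  have hi3 : i ∣ 3 := Nat.dvd_of_mul_dvd_mul_left (by norm_num : 0 < 16)
    (show 16 * i ∣ 16 * 3 from h48)
  rcases (Nat.dvd_prime Nat.prime_three).mp hi3 with rfl | rfl
  · rfl
  · exact absurd (by norm_num) h3

namespace Setup

variable (S : Setup G)

/-- The centralizer of the involution. -/
def C : Subgroup G := centralizer ({S.z} : Set G)

/-- The Sylow 2-subgroup of the centralizer fixing `P`. -/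
def W : Subgroup G := S.C ⊓ normalizer ((S.P : Subgroup G) : Set G)

theorem mem_C {g : G} : g ∈ S.C ↔ Commute g S.z := mem_centralizer_singleton_iff

theorem z_mem_C : S.z ∈ S.C := S.mem_C.mpr (Commute.refl _)

theorem mem_W {g : G} : g ∈ S.W ↔ g ∈ S.C ∧ g • S.P = S.P :=
  and_congr Iff.rfl (smul_sylow_eq_iff g S.P).symm

theorem card_W : Nat.card S.W = 16 := S.hW

theorem W_fix : ∀ w ∈ S.W, w • S.P = S.P := fun _ hw => (S.mem_W.mp hw).2

theorem card_C : Nat.card S.C = 48 := card_centralizer_involution S.hG S.hz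

theorem z_fix_P : S.z • S.P = S.P := by
  rw [smul_sylow_eq_iff]
  refine mem_normalizer_iff.mpr fun x => ⟨fun hx => ?_, fun hx => ?_⟩
  · rw [S.hinv x hx]; exact inv_mem hx
  · have h := S.hinv _ hx
    have hzi := inv_self_of_two S.hz
    have hzz := mul_self_of_two S.hz
    have hx2 : S.z * (S.z * x * S.z⁻¹) * S.z⁻¹ = x := by
      rw [hzi, ← mul_assoc, ← mul_assoc, hzz, one_mul, mul_assoc, hzz, mul_one]
    rw [hx2] at h
    rw [h]
    exact inv_mem hx

theorem z_mem_W : S.z ∈ S.W := S.mem_W.mpr ⟨S.z_mem_C, S.z_fix_P⟩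

theorem exists_k : ∃ k : G, k ∈ S.C ∧ orderOf k = 3 :=
  exists_mem_orderOf 3 (by rw [S.card_C]; norm_num)

/-- An element of order three of the centralizer. -/
noncomputable def k : G := S.exists_k.choose

theorem k_mem : S.k ∈ S.C := S.exists_k.choose_spec.1

theorem orderOf_k : orderOf S.k = 3 := S.exists_k.choose_spec.2

theorem k_pow_three : S.k * (S.k * S.k) = 1 := by
  rw [← pow_two, ← pow_succ', show 2 + 1 = orderOf S.k by rw [S.orderOf_k], pow_orderOf_eq_one]

theorem k_smul_P_ne : S.k • S.P ≠ S.P := fun h => by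
  have := Subgroup.orderOf_dvd_natCard _ (S.mem_W.mpr ⟨S.k_mem, h⟩ : S.k ∈ S.W)
  rw [S.orderOf_k, S.card_W] at this
  norm_num at this

theorem k_cube : S.k ^ 3 = 1 := by rw [← S.orderOf_k, pow_orderOf_eq_one]

/-- The second subgroup. -/
noncomputable def Q : Sylow 3 G := S.k • S.P

/-- The third subgroup. -/
noncomputable def R : Sylow 3 G := S.k • S.Q

theorem kk_smul_P : (S.k * S.k) • S.P = S.R := mul_smul _ _ _

theorem k_smul_R : S.k • S.R = S.P := by
  rw [R, Q, smul_smul, smul_smul, mul_assoc, S.k_pow_three, one_smul]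

theorem P_ne_Q : S.P ≠ S.Q := fun h => S.k_smul_P_ne h.symm

theorem Q_ne_R : S.Q ≠ S.R := fun h => S.P_ne_Q (smul_left_cancel S.k h)

theorem R_ne_P : S.R ≠ S.P := fun h =>
  S.P_ne_Q ((smul_left_cancel S.k (S.k_smul_R.trans h.symm) : S.R = S.Q).symm.trans h).symm

theorem orbit_eq {g : G} (hg : g ∈ S.C) : g • S.P = S.P ∨ g • S.P = S.Q ∨ g • S.P = S.R := by
  classical
  have horb : Nat.card (orbit S.C S.P) = 3 := by
    have h := (orbitEquivQuotientStabilizer S.C S.P)
    have hm := (stabilizer S.C S.P).card_mul_index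
    have hstab : Nat.card (stabilizer S.C S.P) = 16 := by
      rw [← S.card_W]
      refine Nat.card_congr
        { toFun := fun g => ⟨g.1.1, S.mem_W.mpr ⟨g.1.2, g.2⟩⟩
          invFun := fun g => ⟨⟨g.1, (S.mem_W.mp g.2).1⟩, (S.mem_W.mp g.2).2⟩
          left_inv := fun g => rfl
          right_inv := fun g => rfl }
    rw [hstab, index_eq_card, ← Nat.card_congr h, S.card_C] at hm
    omega
  by_contra hc
  push Not at hc
  obtain ⟨h1, h2, h3⟩ := hc
  have hk := S.k_mem
  let f : Fin 4 → orbit S.C S.P := ![⟨S.P, mem_orbit_self _⟩, ⟨S.Q, ⟨⟨S.k, hk⟩, rfl⟩⟩,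
    ⟨S.R, ⟨⟨S.k * S.k, S.C.mul_mem hk hk⟩, S.kk_smul_P⟩⟩, ⟨g • S.P, ⟨⟨g, hg⟩, rfl⟩⟩]
  have hf : Function.Injective f := by
    intro i j hij
    have := congrArg Subtype.val hij
    fin_cases i <;> fin_cases j <;>
      simp [f, S.P_ne_Q, S.P_ne_Q.symm, S.Q_ne_R, S.Q_ne_R.symm, S.R_ne_P, S.R_ne_P.symm,
        h1, h2, h3, Ne.symm h1, Ne.symm h2, Ne.symm h3] at this ⊢
  have := Nat.card_le_card_of_injective f hf
  rw [horb, Nat.card_eq_fintype_card, Fintype.card_fin] at this
  omega

theorem Q_perm {g : G} (hg : g ∈ S.C) : g • S.Q = S.P ∨ g • S.Q = S.Q ∨ g • S.Q = S.R := by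
  rw [Q, smul_smul]; exact S.orbit_eq (S.C.mul_mem hg S.k_mem)

theorem R_perm {g : G} (hg : g ∈ S.C) : g • S.R = S.P ∨ g • S.R = S.Q ∨ g • S.R = S.R := by
  rw [R, smul_smul]; exact S.Q_perm (S.C.mul_mem hg S.k_mem)

theorem smul_fix_of_commute {g h : G} (hc : Commute g h) {A : Sylow 3 G} (hA : g • A = A) :
    g • (h • A) = h • A := by rw [smul_smul, hc.eq, ← smul_smul, hA]

theorem z_fix_Q : S.z • S.Q = S.Q := smul_fix_of_commute (S.mem_C.mp S.k_mem).symm S.z_fix_P

theorem z_fix_R : S.z • S.R = S.R := smul_fix_of_commute (S.mem_C.mp S.k_mem).symm S.z_fix_Q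

theorem eq_of_fix_W {g h p : G} (hg : g ∈ S.W) (hh : h ∈ S.W) (hg1 : g ≠ 1) (hh1 : h ≠ 1)
    (hp : p ∈ (S.P : Subgroup G)) (hp1 : p ≠ 1) (hgp : Commute g p) (hhp : Commute h p) : g = h :=
  eq_of_fix S.hG S.P S.card_W S.W_fix hg hh hg1 hh1 hp hp1 hgp hhp

/-- An involution of `W` other than `z` fixes some element of `P`. -/
theorem exists_fixed {v : G} (hv : v ∈ S.W) (hv2 : orderOf v = 2) (hvz : v ≠ S.z) :
    ∃ p ∈ (S.P : Subgroup G), p ≠ 1 ∧ Commute v p := by
  by_contra hno
  push Not at hno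
  have hvv := mul_self_of_two hv2
  have hvi := inv_self_of_two hv2
  have hcz : Commute v S.z := S.mem_C.mp (S.mem_W.mp hv).1
  have hinv : ∀ x ∈ (S.P : Subgroup G), v * x * v⁻¹ = x⁻¹ := by
    intro x hx
    by_contra hne
    have hvx := conj_mem_of_fix (S.mem_W.mp hv).2 hx
    refine hno (x * (v * x * v⁻¹)) ((S.P : Subgroup G).mul_mem hx hvx)
      (fun h => hne (eq_inv_of_mul_eq_one_right h)) (mul_inv_eq_iff_eq_mul.mp ?_)
    calc v * (x * (v * x * v⁻¹)) * v⁻¹ = (v * x * v⁻¹) * ((v * v) * x * (v * v)⁻¹) := by group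
      _ = (v * x * v⁻¹) * x := by rw [hvv]; group
      _ = x * (v * x * v⁻¹) := (commute_sylow S.hG hvx hx).eq
  refine hvz ?_
  have h16 : (S.z * v) ^ 16 = 1 := orderOf_dvd_iff_pow_eq_one.mp
    (S.card_W ▸ Subgroup.orderOf_dvd_natCard _ (S.W.mul_mem S.z_mem_W hv))
  have h1 := eq_one_of_centralizes S.hG S.P h16 fun x hx => mul_inv_eq_iff_eq_mul.mp (by
    calc S.z * v * x * (S.z * v)⁻¹ = S.z * (v * x * v⁻¹) * S.z⁻¹ := by group
      _ = x := by rw [hinv x hx, S.hinv _ (inv_mem hx), inv_inv])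
  rw [mul_eq_one_iff_eq_inv, hvi] at h1
  exact h1.symm

/-- No involution other than `z` fixes the three subgroups. -/
theorem eq_z {v : G} (hvC : v ∈ S.C) (hv2 : orderOf v = 2) (hvP : v • S.P = S.P)
    (hvQ : v • S.Q = S.Q) (hvR : v • S.R = S.R) : v = S.z := by
  by_contra hvz
  have hvW : v ∈ S.W := S.mem_W.mpr ⟨hvC, hvP⟩
  have hkz : Commute S.k S.z := S.mem_C.mp S.k_mem
  have hcz : Commute v S.z := S.mem_C.mp hvC
  have hk3 := S.k_pow_three
  have hzz := mul_self_of_two S.hz
  -- `k` centralizes `v`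
  have hkv : Commute S.k v := by
    by_contra hne
    let a : ℕ → G := fun i => S.k ^ i * v * (S.k ^ i)⁻¹
    have ha2 : ∀ i, orderOf (a i) = 2 := fun i => by
      rw [show a i = MulAut.conj (S.k ^ i) v from rfl, MulEquiv.orderOf_eq, hv2]
    have hpow : ∀ i, S.k ^ i ∈ S.C := fun i => pow_mem S.k_mem i
    have haz : ∀ i, Commute (a i) S.z := fun i =>
      (((hkz.pow_left i).mul_left hcz).mul_left (hkz.pow_left i).inv_left)
    have hk_mod : ∀ i, S.k ^ i = S.k ^ (i % 3) := fun i => by
      rw [← S.orderOf_k, pow_mod_orderOf]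
    have hfix : ∀ i, a i • S.P = S.P := by
      intro i
      have h0 : ∀ j : ℕ, j < 3 → v • ((S.k ^ j)⁻¹ • S.P) = (S.k ^ j)⁻¹ • S.P := by
        intro j hj
        interval_cases j
        · simpa using hvP
        · have : (S.k ^ 1)⁻¹ • S.P = S.R := by rw [pow_one, inv_smul_eq_iff, S.k_smul_R]
          rw [this, hvR]
        · have : (S.k ^ 2)⁻¹ • S.P = S.Q := by
            rw [inv_smul_eq_iff, pow_two, mul_smul]; exact S.k_smul_R.symm
          rw [this, hvQ]
      show (S.k ^ i * v * (S.k ^ i)⁻¹) • S.P = S.P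
      rw [hk_mod i, mul_smul, mul_smul, h0 _ (Nat.mod_lt _ (by norm_num)), smul_inv_smul]
    have hzP := S.z_fix_P
    let b : Fin 3 × Bool → G := fun x => a x.1 * cond x.2 S.z 1
    have hbW : ∀ x, b x ∈ S.W := fun x => by
      have haC : a x.1 ∈ S.W := S.mem_W.mpr ⟨S.mem_C.mpr (haz _), hfix _⟩
      refine S.W.mul_mem haC ?_
      cases x.2
      · exact one_mem _
      · exact S.z_mem_W
    -- commutation with `k`
    have hcomm : ∀ i : ℕ, i % 3 ≠ 0 → ¬ Commute (S.k ^ i) v := by
      intro i hi hc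
      refine hne ?_
      rw [hk_mod i] at hc
      have hlt := Nat.mod_lt i (show 0 < 3 by norm_num)
      rcases (show i % 3 = 1 ∨ i % 3 = 2 by omega) with h | h <;> rw [h] at hc
      · rwa [pow_one] at hc
      · rw [show S.k = (S.k ^ 2)⁻¹ by
          rw [eq_inv_iff_mul_eq_one, pow_two]; exact hk3]
        exact hc.inv_left
    have hsame : ∀ i j : Fin 3, a i = a j → i = j := by
      intro i j h
      by_contra hij
      refine hcomm (i.val + 2 * j.val) ?_ ?_
      · have := i.isLt; have := j.isLt; have : i.val ≠ j.val := fun e => hij (Fin.ext e)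
        omega
      · have h3 : S.k ^ (3 * j.val) = 1 := by
          rw [pow_mul, S.k_cube, one_pow]
        have hinvj : (S.k ^ j.val)⁻¹ = S.k ^ (2 * j.val) := by
          rw [inv_eq_iff_mul_eq_one, ← pow_add, show j.val + 2 * j.val = 3 * j.val by ring, h3]
        refine mul_inv_eq_iff_eq_mul.mp ?_
        rw [pow_add, ← hinvj, show S.k ^ i.val * (S.k ^ j.val)⁻¹ = (S.k ^ i.val) * (S.k ^ j.val)⁻¹
          from rfl, ((Commute.refl S.k).pow_pow i.val j.val).inv_right.eq]
        calc (S.k ^ j.val)⁻¹ * S.k ^ i.val * v * ((S.k ^ j.val)⁻¹ * S.k ^ i.val)⁻¹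
            = (S.k ^ j.val)⁻¹ * (a i) * S.k ^ j.val := by simp only [a]; group
          _ = v := by rw [h]; simp only [a]; group
    have hdiff : ∀ i j : Fin 3, a i ≠ a j * S.z := by
      intro i j h
      -- conjugating twice
      set g := (S.k ^ j.val)⁻¹ * S.k ^ i.val with hg
      have h1 : g * v * g⁻¹ = v * S.z := by
        calc g * v * g⁻¹ = (S.k ^ j.val)⁻¹ * (a i) * S.k ^ j.val := by simp only [a, hg]; group
          _ = (S.k ^ j.val)⁻¹ * (a j) * (S.z * S.k ^ j.val) := by rw [h]; group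
          _ = (S.k ^ j.val)⁻¹ * (a j) * (S.k ^ j.val * S.z) := by
            rw [(hkz.pow_left j.val).eq]
          _ = v * S.z := by simp only [a]; group
      have hgz : Commute g S.z := ((hkz.pow_left _).inv_left).mul_left (hkz.pow_left _)
      have hg3 : g * (g * g) = 1 := by
        have hc : Commute (S.k ^ j.val)⁻¹ (S.k ^ i.val) :=
          ((Commute.refl S.k).pow_pow j.val i.val).inv_left
        have h0 : g ^ 3 = 1 := by
          rw [hg, hc.mul_pow, inv_pow, ← pow_mul, ← pow_mul, mul_comm j.val, mul_comm i.val,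
            pow_mul, pow_mul, S.k_cube]
          simp
        rw [← pow_two, ← pow_succ']; exact h0
      have h3 : v = v * S.z := by
        have e1 : g * (v * S.z) * g⁻¹ = v := by
          calc g * (v * S.z) * g⁻¹ = (g * v * g⁻¹) * (g * S.z * g⁻¹) := by group
            _ = v := by rw [h1, hgz.eq, mul_inv_cancel_right, mul_assoc v, hzz, mul_one]
        calc v = (g * (g * g)) * v * (g * (g * g))⁻¹ := by rw [hg3]; group
          _ = g * (g * (g * v * g⁻¹) * g⁻¹) * g⁻¹ := by group
          _ = g * v * g⁻¹ := congrArg (fun u => g * u * g⁻¹) ((congrArg (fun u => g * u * g⁻¹) h1).trans e1)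
          _ = v * S.z := h1
      rw [left_eq_mul] at h3
      have := S.hz
      rw [h3, orderOf_one] at this
      omega
    have hbinj : Function.Injective b := by
      rintro ⟨i, ε⟩ ⟨j, δ⟩ h
      cases ε <;> cases δ <;> simp only [b, cond_true, cond_false, mul_one] at h
      · rw [hsame i j h]
      · exact absurd h (hdiff i j)
      · exact absurd h.symm (hdiff j i)
      · rw [hsame i j (mul_right_cancel h)]
    have hb2 : ∀ x, orderOf (b x) = 2 ∧ b x ≠ S.z := by
      rintro ⟨i, ε⟩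
      have haa := mul_self_of_two (ha2 i)
      cases ε <;> simp only [b, cond_true, cond_false, mul_one]
      · refine ⟨ha2 i, fun h => hvz ?_⟩
        have e : v = (S.k ^ i.val)⁻¹ * a i * S.k ^ i.val := by simp only [a]; group
        rw [e, h, mul_assoc, ← (hkz.pow_left i.val).eq, inv_mul_cancel_left]
      · refine ⟨orderOf_eq_prime ?_ fun h => ?_, fun h => ?_⟩
        · rw [(haz _).mul_pow, pow_two, pow_two, haa, hzz, one_mul]
        · refine hvz ?_
          rw [mul_eq_one_iff_eq_inv, inv_self_of_two S.hz] at h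
          have e : v = (S.k ^ i.val)⁻¹ * a i * S.k ^ i.val := by simp only [a]; group
          rw [e, h, mul_assoc, ← (hkz.pow_left i.val).eq, inv_mul_cancel_left]
        · rw [mul_eq_right] at h
          have := ha2 i
          rw [h, orderOf_one] at this
          omega
    choose p hp hp1 hpc using fun x => S.exists_fixed (hbW x) (hb2 x).1 (hb2 x).2
    let f : (Fin 3 × Bool) × Bool → (S.P : Subgroup G) := fun y =>
      cond y.2 ⟨p y.1, hp y.1⟩ ⟨(p y.1)⁻¹, inv_mem (hp y.1)⟩
    have hf : Function.Injective f := by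
      rintro ⟨x, ε⟩ ⟨y, δ⟩ h
      have hxy : x = y := by
        refine hbinj (S.eq_of_fix_W (hbW x) (hbW y) ?_ ?_ (hp x) (hp1 x) (hpc x) ?_)
        · intro e; have := (hb2 x).1; rw [e, orderOf_one] at this; omega
        · intro e; have := (hb2 y).1; rw [e, orderOf_one] at this; omega
        · cases ε <;> cases δ <;> simp only [f, cond_true, cond_false, Subtype.mk.injEq] at h
          · rw [inv_injective h]; exact hpc y
          · rw [inv_eq_iff_eq_inv] at h; rw [h]; exact (hpc y).inv_right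
          · rw [h]; exact (hpc y).inv_right
          · rw [h]; exact hpc y
      subst hxy
      have hne' : p x ≠ (p x)⁻¹ := fun e => by
        have := orderOf_dvd_of_pow_eq_one (x := p x) (n := 2)
          (by rw [pow_two]; nth_rw 2 [e]; exact mul_inv_cancel _)
        rw [orderOf_eq_three S.hG (hp x) (hp1 x)] at this
        omega
      cases ε <;> cases δ <;> simp only [f, cond_true, cond_false, Subtype.mk.injEq] at h
      · rfl
      · exact absurd h.symm hne'
      · exact absurd h hne'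
      · rfl
    have := Nat.card_le_card_of_injective f hf
    rw [card_sylow_three_eq S.hG S.P] at this
    simp at this
  -- the orbit of the centralizer of `v`
  obtain ⟨p, hp, hp1, hvp⟩ := S.exists_fixed hvW hv2 hvz
  have hp3 := orderOf_eq_three S.hG hp hp1
  have hpP : p • S.P = S.P := (smul_sylow_eq_iff p S.P).mpr (le_normalizer hp)
  set Cv := centralizer ({v} : Set G)
  have hmemv : ∀ {g : G}, Commute g v → g ∈ Cv := fun h => mem_centralizer_singleton_iff.mpr h
  set N := normalizer ((S.P : Subgroup G) : Set G)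
  have h12 : 12 ∣ Nat.card (Cv ⊓ N : Subgroup G) := by
    refine Nat.Coprime.mul_dvd_of_dvd_of_dvd (m := 4) (n := 3) (by norm_num) ?_ ?_
    · have hd := card_dvd_of_le (show S.W ⊓ Cv ≤ Cv ⊓ N from le_inf inf_le_right
        (inf_le_left.trans inf_le_right))
      refine dvd_trans ?_ hd
      have h16 : Nat.card (S.W ⊓ Cv : Subgroup G) ∣ 2 ^ 4 :=
        (card_dvd_of_le (inf_le_left : S.W ⊓ Cv ≤ S.W)).trans (by rw [S.card_W]; norm_num)
      obtain ⟨j, -, hj⟩ := (Nat.dvd_prime_pow Nat.prime_two).mp h16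
      have h3 : 3 ≤ Nat.card (S.W ⊓ Cv : Subgroup G) := by
        let f : Fin 3 → (S.W ⊓ Cv : Subgroup G) := ![1, ⟨v, hvW, hmemv (Commute.refl v)⟩,
          ⟨S.z, S.z_mem_W, hmemv hcz.symm⟩]
        have hf : Function.Injective f := by
          intro i j hij
          have := congrArg Subtype.val hij
          have hv1 : v ≠ 1 := fun e => by rw [e, orderOf_one] at hv2; omega
          have hz1 : S.z ≠ 1 := fun e => by have := S.hz; rw [e, orderOf_one] at this; omega
          fin_cases i <;> fin_cases j <;> simp [f, hv1, hv1.symm, hz1, hz1.symm, hvz, Ne.symm hvz]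
            at this ⊢
        simpa using Nat.card_le_card_of_injective f hf
      rw [hj] at h3 ⊢
      refine (show (4 : ℕ) = 2 ^ 2 by norm_num) ▸ pow_dvd_pow 2 ?_
      by_contra hlt
      interval_cases j <;> simp at h3
    · rw [← hp3]
      exact Subgroup.orderOf_dvd_natCard _ ⟨hmemv hvp.symm, le_normalizer hp⟩
  have horb : Nat.card (orbit Cv S.P) ≤ 4 := by
    have hm := (stabilizer Cv S.P).card_mul_index
    have hst : Nat.card (stabilizer Cv S.P) = Nat.card (Cv ⊓ N : Subgroup G) := by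
      exact Nat.card_congr
        { toFun := fun g => ⟨g.1.1, g.1.2, (smul_sylow_eq_iff _ _).mp g.2⟩
          invFun := fun g => ⟨⟨g.1, g.2.1⟩, (smul_sylow_eq_iff _ _).mpr g.2.2⟩
          left_inv := fun g => rfl
          right_inv := fun g => rfl }
    rw [hst, index_eq_card, ← Nat.card_congr (orbitEquivQuotientStabilizer Cv S.P),
      card_centralizer_involution S.hG hv2] at hm
    have := Nat.le_of_dvd Nat.card_pos h12
    nlinarith
  have hzp : ∀ A : Sylow 3 G, S.z • A = A → S.z • (p • A) = p⁻¹ • A := by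
    intro A hA
    rw [smul_smul, show S.z * p = p⁻¹ * S.z by rw [← S.hinv p hp]; group, ← smul_smul, hA]
  have hpQ : p • S.Q = S.Q := by
    have hfix : p⁻¹ • S.Q = p • S.Q → p • S.Q = S.Q := by
      intro h
      rw [inv_smul_eq_iff, smul_smul] at h
      have h3 : p * (p * p) = 1 := by
        rw [← pow_two, ← pow_succ', show 2 + 1 = orderOf p by rw [hp3], pow_orderOf_eq_one]
      calc p • S.Q = p • (p * p) • S.Q := by rw [← h]
        _ = S.Q := by rw [smul_smul, h3, one_smul]
    by_contra hne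
    have hR : p • S.Q ≠ S.R := fun h => hne (hfix (by
      rw [← hzp S.Q S.z_fix_Q, h, S.z_fix_R]))
    have hR' : p⁻¹ • S.Q ≠ S.R := fun h => hne (hfix (by
      exact h.trans (by
        rw [← S.z_fix_R, ← h, smul_smul, show S.z * p⁻¹ = p * S.z by
          rw [← inv_inj, mul_inv_rev, mul_inv_rev, inv_inv, inv_self_of_two S.hz,
            ← S.hinv p hp, inv_self_of_two S.hz, ← mul_assoc, ← mul_assoc, hzz, one_mul],
          ← smul_smul, S.z_fix_Q])))
    have hQ' : p⁻¹ • S.Q ≠ S.Q := fun h => hne (by rwa [inv_smul_eq_iff, eq_comm] at h)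
    have hP1 : ∀ g : G, g ∈ (S.P : Subgroup G) → g • S.Q ≠ S.P := fun g hg h => S.P_ne_Q (by
      rw [← smul_left_cancel_iff g, (smul_sylow_eq_iff g S.P).mpr (le_normalizer hg)]
      exact h.symm)
    let f : Fin 5 → orbit Cv S.P := ![⟨S.P, mem_orbit_self _⟩,
      ⟨S.Q, ⟨⟨S.k, hmemv hkv⟩, rfl⟩⟩,
      ⟨S.R, ⟨⟨S.k * S.k, hmemv (hkv.mul_left hkv)⟩, S.kk_smul_P⟩⟩,
      ⟨p • S.Q, ⟨⟨p * S.k, hmemv (hvp.symm.mul_left hkv)⟩, show (p * S.k) • S.P = p • S.Q from mul_smul _ _ _⟩⟩,
      ⟨p⁻¹ • S.Q, ⟨⟨p⁻¹ * S.k, hmemv (hvp.symm.inv_left.mul_left hkv)⟩, show (p⁻¹ * S.k) • S.P = p⁻¹ • S.Q from mul_smul _ _ _⟩⟩]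
    have hf : Function.Injective f := by
      intro i j hij
      have := congrArg Subtype.val hij
      have h34 : p • S.Q ≠ p⁻¹ • S.Q := fun h => hne (hfix h.symm)
      fin_cases i <;> fin_cases j <;>
        simp [f, S.P_ne_Q, S.P_ne_Q.symm, S.Q_ne_R, S.Q_ne_R.symm, S.R_ne_P, S.R_ne_P.symm,
          hR, hR', hR.symm, hR'.symm, hP1 p hp, (hP1 p hp).symm, hP1 p⁻¹ (inv_mem hp),
          (hP1 p⁻¹ (inv_mem hp)).symm, hne, Ne.symm hne, hQ', hQ'.symm, h34, h34.symm] at this ⊢
    have := Nat.card_le_card_of_injective f hf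
    rw [Nat.card_eq_fintype_card, Fintype.card_fin] at this
    omega
  have hq : S.k * p * S.k⁻¹ ∈ (S.Q : Subgroup G) := conj_mem_smul S.k S.P hp
  have hpmem := mem_of_fix hp hpQ
  have hq3 : orderOf (S.k * p * S.k⁻¹) = 3 := by
    rw [show S.k * p * S.k⁻¹ = MulAut.conj S.k p from rfl, MulEquiv.orderOf_eq, hp3]
  have h1 := mem_zpowers_of_commute S.hG hv2 hp3 hq3 hvp.symm
    ((hkv.mul_left hvp.symm).mul_left hkv.inv_left) (commute_sylow S.hG hpmem hq)
  have hkp : Commute S.k p := commute_of_normalizes_three (n := 3) (by decide)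
    (S.orderOf_k ▸ pow_orderOf_eq_one S.k) hp3 h1
  have h2 := mem_zpowers_of_commute S.hG hv2 hp3 S.orderOf_k hvp.symm hkv hkp.symm
  refine S.k_smul_P_ne ((smul_sylow_eq_iff _ _).mpr (le_normalizer ?_))
  exact zpowers_le.mpr hp h2

end Setup

end Cfsg.Agent.Lib.Recog7920
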