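import Mathlib
import Cfsg.Agent.Lib.Recog7920.Triangle

/-!
A simple group of order 7920: the subgroup of order eight fixing the three subgroups, and the
orbit of a Sylow subgroup on its neighbours.
-/

set_option autoImplicit false
set_option linter.style.haveILetI false

namespace Cfsg.Agent.Lib.Recog7920

open Subgroup MulAction Cfsg Cfsg.Agent.Lib.SmallGroups Cfsg.Agent.Lib.Order7920
open scoped Pointwise

universe u

variable {G : Type u} [Group G] [Finite G] [Fact (Nat.Prime 3)]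

/-- The orbit of `B` under the subgroup `A`. -/
def line (A B : Sylow 3 G) : Set (Sylow 3 G) := {X | ∃ a ∈ (A : Subgroup G), a • B = X}

theorem mem_line_self (A B : Sylow 3 G) : B ∈ line A B := ⟨1, one_mem _, one_smul _ _⟩

theorem smul_line (g : G) (A B : Sylow 3 G) : g • line A B = line (g • A) (g • B) := by
  ext X
  rw [Set.mem_smul_set]
  constructor
  · rintro ⟨_, ⟨a, ha, rfl⟩, rfl⟩
    exact ⟨g * a * g⁻¹, conj_mem_smul g A ha, by rw [smul_smul, inv_mul_cancel_right, mul_smul]⟩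
  · rintro ⟨a, ha, rfl⟩
    refine ⟨(g⁻¹ * a * g) • B, ⟨g⁻¹ * a * g, ?_, rfl⟩, ?_⟩
    · have := conj_mem_smul g⁻¹ (g • A) ha
      rwa [inv_smul_smul, inv_inv] at this
    · rw [smul_smul, smul_smul, ← mul_assoc, ← mul_assoc, mul_inv_cancel, one_mul]

theorem line_eq_of_mem {A B X : Sylow 3 G} (h : X ∈ line A B) : line A X = line A B := by
  obtain ⟨a, ha, rfl⟩ := h
  ext Y
  constructor
  · rintro ⟨b, hb, rfl⟩
    exact ⟨b * a, mul_mem hb ha, mul_smul _ _ _⟩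
  · rintro ⟨b, hb, rfl⟩
    exact ⟨b * a⁻¹, mul_mem hb (inv_mem ha), by rw [smul_smul, inv_mul_cancel_right]⟩

theorem smul_self_of_mem {A : Sylow 3 G} {a : G} (ha : a ∈ (A : Subgroup G)) : a • A = A :=
  (smul_sylow_eq_iff a A).mpr (le_normalizer ha)

theorem smul_line_self {A B : Sylow 3 G} {a : G} (ha : a ∈ (A : Subgroup G)) :
    a • line A B = line A B := by
  rw [smul_line, smul_self_of_mem ha]
  exact line_eq_of_mem ⟨a, ha, rfl⟩

namespace Setup

variable (S : Setup G)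

/-- The subgroup fixing the three subgroups. -/
noncomputable def D : Subgroup G := S.W ⊓ stabilizer G S.Q

theorem mem_D {g : G} : g ∈ S.D ↔ g ∈ S.C ∧ g • S.P = S.P ∧ g • S.Q = S.Q := by
  simp [D, Subgroup.mem_inf, S.mem_W, MulAction.mem_stabilizer_iff, and_assoc]

theorem fix_R {g : G} (hg : g ∈ S.D) : g • S.R = S.R := by
  obtain ⟨hC, hP, hQ⟩ := S.mem_D.mp hg
  rcases S.R_perm hC with h | h | h
  · exact absurd (smul_left_cancel g (h.trans hP.symm)) S.R_ne_P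
  · exact absurd (smul_left_cancel g (h.trans hQ.symm)).symm S.Q_ne_R
  · exact h

theorem conj_mem_D {g d : G} (hg : g ∈ S.C) (hd : d ∈ S.D) : g * d * g⁻¹ ∈ S.D := by
  have hgi := S.C.inv_mem hg
  refine S.mem_D.mpr ⟨S.C.mul_mem (S.C.mul_mem hg (S.mem_D.mp hd).1) hgi, ?_, ?_⟩
  all_goals
    have hfix : ∀ X : Sylow 3 G, X = S.P ∨ X = S.Q ∨ X = S.R → d • X = X := by
      rintro X (rfl | rfl | rfl)
      exacts [(S.mem_D.mp hd).2.1, (S.mem_D.mp hd).2.2, S.fix_R hd]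
  · rw [mul_smul, mul_smul, hfix _ (S.orbit_eq hgi), smul_inv_smul]
  · rw [mul_smul, mul_smul, hfix _ (S.Q_perm hgi), smul_inv_smul]

theorem z_mem_D : S.z ∈ S.D := S.mem_D.mpr ⟨S.z_mem_C, S.z_fix_P, S.z_fix_Q⟩

/-- Every non-trivial element of `D` has `z` as a power. -/
theorem z_mem_zpowers {d : G} (hd : d ∈ S.D) (hd1 : d ≠ 1) : S.z ∈ zpowers d := by
  haveI : Fact (Nat.Prime 2) := ⟨Nat.prime_two⟩
  have hdvd : orderOf d ∣ 2 ^ 4 :=
    (Subgroup.orderOf_dvd_natCard _ (inf_le_left (b := stabilizer G S.Q) hd)).trans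
      (by rw [S.card_W]; norm_num)
  obtain ⟨j, -, hj⟩ := (Nat.dvd_prime_pow Nat.prime_two).mp hdvd
  have h2 : 2 ∣ Nat.card (zpowers d) := by
    rw [Nat.card_zpowers, hj]
    exact dvd_pow_self 2 fun h => hd1 (orderOf_eq_one_iff.mp (by rw [hj, h, pow_zero]))
  obtain ⟨u, hu, hu2⟩ := exists_mem_orderOf 2 h2
  have hle : zpowers d ≤ S.D := zpowers_le.mpr hd
  obtain ⟨h1, h2, h3⟩ := S.mem_D.mp (hle hu)
  exact S.eq_z h1 hu2 h2 h3 (S.fix_R (hle hu)) ▸ hu

theorem eq_inv_three {p : G} (hp : p ∈ (S.P : Subgroup G)) (h : p = p⁻¹) : p = 1 := by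
  by_contra hp1
  have := orderOf_dvd_of_pow_eq_one (x := p) (n := 2)
    (by rw [pow_two]; nth_rw 2 [h]; exact mul_inv_cancel _)
  rw [orderOf_eq_three S.hG hp hp1] at this
  omega

theorem free {d p : G} (hd : d ∈ S.D) (hp : p ∈ (S.P : Subgroup G)) (hp1 : p ≠ 1)
    (hc : Commute d p) : d = 1 := by
  by_contra hd1
  obtain ⟨i, hi⟩ := mem_zpowers_iff.mp (S.z_mem_zpowers hd hd1)
  have h := S.hinv p hp
  rw [← hi, (hc.zpow_left i).eq, mul_inv_cancel_right] at h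
  exact hp1 (S.eq_inv_three hp h)

theorem exists_ne_one : ∃ p ∈ (S.P : Subgroup G), p ≠ 1 := by
  obtain ⟨p, hp, hp3⟩ := exists_mem_orderOf 3 (H := (S.P : Subgroup G))
    (by rw [card_sylow_three_eq S.hG]; norm_num)
  exact ⟨p, hp, fun h => by rw [h, orderOf_one] at hp3; omega⟩

theorem card_nonone : Nat.card {x : (S.P : Subgroup G) // x ≠ 1} = 8 := by
  haveI := Fintype.ofFinite (S.P : Subgroup G)
  classical
  rw [Nat.card_eq_fintype_card, Fintype.card_subtype_compl, Fintype.card_subtype_eq,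
    ← Nat.card_eq_fintype_card, card_sylow_three_eq S.hG]

/-- Conjugating a fixed non-trivial element of `P`. -/
noncomputable def conjMap {p : G} (hp : p ∈ (S.P : Subgroup G)) (hp1 : p ≠ 1) (d : S.D) :
    {x : (S.P : Subgroup G) // x ≠ 1} :=
  ⟨⟨d * p * (d : G)⁻¹, conj_mem_of_fix (S.mem_D.mp d.2).2.1 hp⟩,
    fun h => hp1 (conj_eq_one_iff.mp (congrArg Subtype.val h))⟩

theorem conjMap_injective {p : G} (hp : p ∈ (S.P : Subgroup G)) (hp1 : p ≠ 1) :
    Function.Injective (S.conjMap hp hp1) := by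
  intro a b h
  have h' : (a : G) * p * (a : G)⁻¹ = b * p * (b : G)⁻¹ :=
    congrArg (fun x : {x : (S.P : Subgroup G) // x ≠ 1} => ((x : (S.P : Subgroup G)) : G)) h
  refine Subtype.ext (inv_mul_eq_one.mp
    (S.free (S.D.mul_mem (inv_mem b.2) a.2) hp hp1 ?_)).symm
  calc (b : G)⁻¹ * a * p = (b : G)⁻¹ * (a * p * (a : G)⁻¹) * a := by group
    _ = p * ((b : G)⁻¹ * a) := by rw [h']; group

theorem card_D : Nat.card S.D = 8 := by
  obtain ⟨p, hp, hp1⟩ := S.exists_ne_one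
  have hle : Nat.card S.D ≤ 8 :=
    (Nat.card_le_card_of_injective _ (S.conjMap_injective hp hp1)).trans S.card_nonone.le
  refine le_antisymm hle ?_
  have hst : Nat.card (stabilizer S.W S.Q) = Nat.card S.D :=
    Nat.card_congr
      { toFun := fun g => ⟨g.1.1, g.1.2, g.2⟩
        invFun := fun g => ⟨⟨g.1, g.2.1⟩, g.2.2⟩
        left_inv := fun g => rfl
        right_inv := fun g => rfl }
  have hm := (stabilizer S.W S.Q).card_mul_index
  rw [hst, S.card_W, MulAction.index_stabilizer] at hm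
  have h2 : (orbit S.W S.Q).ncard ≤ 2 := by
    refine (Set.ncard_le_ncard (t := {S.Q, S.R}) ?_).trans
      ((Set.ncard_insert_le _ _).trans (by rw [Set.ncard_singleton]))
    rintro _ ⟨w, rfl⟩
    obtain ⟨hw, hwP⟩ := S.mem_W.mp w.2
    rcases S.Q_perm hw with h | h | h
    · exact absurd (smul_left_cancel (w : G) (h.trans hwP.symm)).symm S.P_ne_Q
    · exact Or.inl h
    · exact Or.inr h
  nlinarith

theorem exists_conj {p q : G} (hp : p ∈ (S.P : Subgroup G)) (hp1 : p ≠ 1)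
    (hq : q ∈ (S.P : Subgroup G)) (hq1 : q ≠ 1) : ∃ d ∈ S.D, d * p * d⁻¹ = q := by
  obtain ⟨d, hd⟩ := ((Nat.bijective_iff_injective_and_card _).mpr
    ⟨S.conjMap_injective hp hp1, by rw [S.card_D, S.card_nonone]⟩).2
    ⟨⟨q, hq⟩, fun h => hq1 (congrArg Subtype.val h)⟩
  exact ⟨d, d.2,
    congrArg (fun x : {x : (S.P : Subgroup G) // x ≠ 1} => ((x : (S.P : Subgroup G)) : G)) hd⟩

theorem exists_v : ∃ v : G, v ∈ S.C ∧ orderOf v = 2 ∧ v • S.P = S.P ∧ v • S.Q = S.R ∧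
    v • S.R = S.Q := by
  obtain ⟨p, hp, hp1⟩ := S.exists_ne_one
  have hle := card_le_orbit_mul (N := S.W) (C := S.W ⊓ centralizer ({p} : Set G)) (z := p)
    (S := {x : G | x ∈ (S.P : Subgroup G) ∧ x ≠ 1})
    (fun g hg h => ⟨hg, mem_centralizer_singleton_iff.mpr h⟩)
    (fun g hg => ⟨conj_mem_of_fix (S.W_fix g hg) hp, fun h => hp1 (conj_eq_one_iff.mp h)⟩)
  have h8 : Nat.card {x : G | x ∈ (S.P : Subgroup G) ∧ x ≠ 1} = 8 := by
    rw [← S.card_nonone]
    exact Nat.card_congr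
      { toFun := fun x => ⟨⟨x.1, x.2.1⟩, fun h => x.2.2 (congrArg Subtype.val h)⟩
        invFun := fun x => ⟨x.1.1, x.1.2, fun h => x.2 (Subtype.ext h)⟩
        left_inv := fun x => rfl
        right_inv := fun x => rfl }
  rw [h8, S.card_W] at hle
  haveI : Nontrivial (S.W ⊓ centralizer ({p} : Set G) : Subgroup G) :=
    Finite.one_lt_card_iff_nontrivial.mp (by omega)
  obtain ⟨⟨v, hvW, hvp⟩, hv1'⟩ :=
    exists_ne (1 : (S.W ⊓ centralizer ({p} : Set G) : Subgroup G))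
  have hv1 : v ≠ 1 := fun h => hv1' (Subtype.ext h)
  have hvc : Commute v p := mem_centralizer_singleton_iff.mp hvp
  have hvv : v * v = 1 := by
    by_contra hne
    have h := S.eq_of_fix_W (S.W.mul_mem hvW hvW) hvW hne hv1 hp hp1 (hvc.mul_left hvc) hvc
    exact hv1 (mul_eq_left.mp h)
  have hv2 : orderOf v = 2 := orderOf_eq_prime (by rw [pow_two, hvv]) hv1
  obtain ⟨hvC, hvP⟩ := S.mem_W.mp hvW
  have hvD : v ∉ S.D := fun h => hv1 (S.free h hp hp1 hvc)
  have hQ : v • S.Q = S.R := by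
    rcases S.Q_perm hvC with h | h | h
    · exact absurd (smul_left_cancel v (h.trans hvP.symm)).symm S.P_ne_Q
    · exact absurd (S.mem_D.mpr ⟨hvC, hvP, h⟩) hvD
    · exact h
  exact ⟨v, hvC, hv2, hvP, hQ, by rw [← hQ, smul_smul, hvv, one_smul]⟩

/-- An involution fixing `P` and exchanging the other two subgroups. -/
noncomputable def v : G := S.exists_v.choose

theorem v_mem : S.v ∈ S.C := S.exists_v.choose_spec.1
theorem orderOf_v : orderOf S.v = 2 := S.exists_v.choose_spec.2.1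
theorem v_P : S.v • S.P = S.P := S.exists_v.choose_spec.2.2.1
theorem v_Q : S.v • S.Q = S.R := S.exists_v.choose_spec.2.2.2.1
theorem v_R : S.v • S.R = S.Q := S.exists_v.choose_spec.2.2.2.2

/-- An element exchanging `P` and `Q`. -/
noncomputable def s : G := S.k * S.k * S.v * S.k

theorem s_mem : S.s ∈ S.C :=
  S.C.mul_mem (S.C.mul_mem (S.C.mul_mem S.k_mem S.k_mem) S.v_mem) S.k_mem

theorem k_P : S.k • S.P = S.Q := rfl
theorem k_Q : S.k • S.Q = S.R := rfl

theorem s_P : S.s • S.P = S.Q := by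
  simp only [s, mul_smul, S.k_P, S.v_Q, S.k_smul_R]

theorem s_Q : S.s • S.Q = S.P := by
  simp only [s, mul_smul, S.k_Q, S.v_R, S.k_smul_R]

/-- An element exchanging `P` and `R`. -/
noncomputable def t : G := S.k * S.v * (S.k * S.k)

theorem t_mem : S.t ∈ S.C :=
  S.C.mul_mem (S.C.mul_mem S.k_mem S.v_mem) (S.C.mul_mem S.k_mem S.k_mem)

theorem t_P : S.t • S.P = S.R := by
  simp only [t, mul_smul, S.k_P, S.k_Q, S.v_R]

theorem t_Q : S.t • S.Q = S.Q := by
  simp only [t, mul_smul, S.k_Q, S.k_smul_R, S.v_P, S.k_P]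

theorem t_R : S.t • S.R = S.P := by
  simp only [t, mul_smul, S.k_P, S.k_Q, S.k_smul_R, S.v_Q]

/-- `P` and `Q` meet trivially. -/
theorem eq_one_of_mem {p : G} (hp : p ∈ (S.P : Subgroup G)) (hQ : p ∈ (S.Q : Subgroup G)) :
    p = 1 := by
  by_contra hp1
  refine S.P_ne_Q (Sylow.ext (Subgroup.eq_of_le_of_card_ge (fun x hx => ?_)
    (by rw [card_sylow_three_eq S.hG, card_sylow_three_eq S.hG])))
  by_cases hx1 : x = 1
  · rw [hx1]; exact one_mem _
  · obtain ⟨d, hd, rfl⟩ := S.exists_conj hp hp1 hx hx1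
    exact conj_mem_of_fix (S.mem_D.mp hd).2.2 hQ

theorem semiregular {p q : G} (hp : p ∈ (S.P : Subgroup G)) (hq : q ∈ (S.P : Subgroup G))
    (h : p • S.Q = q • S.Q) : p = q := by
  have h1 : (q⁻¹ * p) • S.Q = S.Q := by rw [mul_smul, h, inv_smul_smul]
  have h2 := S.eq_one_of_mem (mul_mem (inv_mem hq) hp) (mem_of_fix (mul_mem (inv_mem hq) hp) h1)
  exact (inv_mul_eq_one.mp h2).symm

/-- The orbit of `Q` under `P`, without `Q`. -/
noncomputable def A : Set (Sylow 3 G) := {X | ∃ p ∈ (S.P : Subgroup G), p ≠ 1 ∧ p • S.Q = X}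

theorem line_PQ : line S.P S.Q = insert S.Q S.A := by
  ext X
  constructor
  · rintro ⟨p, hp, rfl⟩
    by_cases hp1 : p = 1
    · rw [hp1, one_smul]; exact Set.mem_insert _ _
    · exact Set.mem_insert_of_mem _ ⟨p, hp, hp1, rfl⟩
  · rintro (rfl | ⟨p, hp, -, rfl⟩)
    · exact mem_line_self _ _
    · exact ⟨p, hp, rfl⟩

theorem R_notMem_line : S.R ∉ line S.P S.Q := by
  rintro ⟨p, hp, h⟩
  have hz : p⁻¹ • S.Q = S.R := by
    rw [show p⁻¹ = S.z * p * S.z⁻¹ from (S.hinv p hp).symm, mul_smul, mul_smul,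
      inv_smul_eq_iff.mpr S.z_fix_Q.symm, h, S.z_fix_R]
  have := S.semiregular (inv_mem hp) hp (hz.trans h.symm)
  rw [S.eq_inv_three hp this.symm, one_smul] at h
  exact S.Q_ne_R h

theorem A_subset {X : Sylow 3 G} (h : X ∈ S.A) : X ≠ S.P ∧ X ≠ S.Q ∧ X ≠ S.R := by
  obtain ⟨p, hp, hp1, rfl⟩ := h
  refine ⟨fun h => S.P_ne_Q (smul_left_cancel p ((smul_self_of_mem hp).trans h.symm)), fun h => ?_,
    fun h => S.R_notMem_line ⟨p, hp, h⟩⟩
  exact hp1 (S.semiregular hp (one_mem _) (by rwa [one_smul]))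

theorem ncard_A : S.A.ncard = 8 := by
  rw [← Nat.card_coe_set_eq, ← S.card_nonone]
  refine (Nat.card_congr (Equiv.ofBijective
    (fun p : {x : (S.P : Subgroup G) // x ≠ 1} => (⟨(p.1 : G) • S.Q, p.1, p.1.2,
      fun h => p.2 (Subtype.ext h), rfl⟩ : S.A)) ⟨fun a b h => ?_, ?_⟩)).symm
  · exact Subtype.ext (Subtype.ext (S.semiregular a.1.2 b.1.2 (congrArg Subtype.val h)))
  · rintro ⟨_, p, hp, hp1, rfl⟩
    exact ⟨⟨⟨p, hp⟩, fun h => hp1 (congrArg Subtype.val h)⟩, rfl⟩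

theorem A_nonempty : S.A.Nonempty := Set.nonempty_of_ncard_ne_zero (by rw [S.ncard_A]; norm_num)

theorem D_smul {d : G} (hd : d ∈ S.D) {X : Sylow 3 G} (hX : X ∈ S.A) : d • X ∈ S.A := by
  obtain ⟨p, hp, hp1, rfl⟩ := hX
  refine ⟨d * p * d⁻¹, conj_mem_of_fix (S.mem_D.mp hd).2.1 hp,
    fun h => hp1 (conj_eq_one_iff.mp h), ?_⟩
  conv_lhs => rw [mul_smul, inv_smul_eq_iff.mpr (S.mem_D.mp hd).2.2.symm, mul_smul]

theorem D_trans {X Y : Sylow 3 G} (hX : X ∈ S.A) (hY : Y ∈ S.A) : ∃ d ∈ S.D, d • X = Y := by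
  obtain ⟨p, hp, hp1, rfl⟩ := hX
  obtain ⟨q, hq, hq1, rfl⟩ := hY
  obtain ⟨d, hd, rfl⟩ := S.exists_conj hp hp1 hq hq1
  refine ⟨d, hd, ?_⟩
  conv_rhs => rw [mul_smul, inv_smul_eq_iff.mpr (S.mem_D.mp hd).2.2.symm, mul_smul]

theorem D_free {d : G} (hd : d ∈ S.D) {X : Sylow 3 G} (hX : X ∈ S.A) (h : d • X = X) : d = 1 := by
  obtain ⟨p, hp, hp1, rfl⟩ := hX
  refine S.free hd hp hp1 (mul_inv_eq_iff_eq_mul.mp (S.semiregular
    (conj_mem_of_fix (S.mem_D.mp hd).2.1 hp) hp ?_))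
  rwa [mul_smul, inv_smul_eq_iff.mpr (S.mem_D.mp hd).2.2.symm, mul_smul]

/-- Translates of `A` by the centralizer meeting each other are equal. -/
theorem smul_A_eq {g h : G} (hg : g ∈ S.C) (hh : h ∈ S.C) {X Y : Sylow 3 G} (hX : X ∈ S.A)
    (hY : Y ∈ S.A) (e : g • X = h • Y) : g • S.A = h • S.A := by
  suffices ∀ g h : G, g ∈ S.C → h ∈ S.C → ∀ X Y : Sylow 3 G, X ∈ S.A → Y ∈ S.A → g • X = h • Y →
      g • S.A ⊆ h • S.A from
    Set.Subset.antisymm (this g h hg hh X Y hX hY e) (this h g hh hg Y X hY hX e.symm)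
  intro g h hg hh X Y hX hY e
  rintro _ ⟨X', hX', rfl⟩
  obtain ⟨d, hd, rfl⟩ := S.D_trans hX hX'
  refine ⟨(h⁻¹ * (g * d * g⁻¹) * h) • Y, S.D_smul ?_ hY, ?_⟩
  · have := S.conj_mem_D (S.C.inv_mem hh) (S.conj_mem_D hg hd)
    rwa [inv_inv] at this
  · show h • (h⁻¹ * (g * d * g⁻¹) * h) • Y = g • d • X
    rw [mul_smul, ← e, smul_smul, smul_smul, smul_smul]
    congr 1
    group

theorem smul_A_of_mem_D {d : G} (hd : d ∈ S.D) : d • S.A = S.A := by
  obtain ⟨X, hX⟩ := S.A_nonempty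
  have := S.smul_A_eq (S.mem_D.mp hd).1 (one_mem _) hX (S.D_smul hd hX) (by rw [one_smul])
  rwa [one_smul] at this

theorem smul_A_congr {g h : G} (hg : g ∈ S.C) (hh : h ∈ S.C) (hP : g • S.P = h • S.P)
    (hQ : g • S.Q = h • S.Q) : g • S.A = h • S.A := by
  have hd : h⁻¹ * g ∈ S.D := S.mem_D.mpr ⟨S.C.mul_mem (inv_mem hh) hg,
    by rw [mul_smul, hP, inv_smul_smul], by rw [mul_smul, hQ, inv_smul_smul]⟩
  conv_lhs => rw [← mul_inv_cancel_left h g, mul_smul, S.smul_A_of_mem_D hd]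

theorem smul_line_PQ (g : G) : g • line S.P S.Q = insert (g • S.Q) (g • S.A) := by
  rw [S.line_PQ, Set.smul_set_insert]

theorem v_A_ne : S.v • S.A ≠ S.A := by
  intro h
  obtain ⟨X, hX⟩ := S.A_nonempty
  have h1 : X ∈ line S.P S.Q := S.line_PQ ▸ Set.mem_insert_of_mem _ hX
  have h2 : X ∈ S.v • line S.P S.Q := by
    rw [S.smul_line_PQ, h]; exact Set.mem_insert_of_mem _ hX
  rw [smul_line, S.v_P, S.v_Q] at h2
  have := (line_eq_of_mem h1).symm.trans (line_eq_of_mem h2)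
  exact S.R_notMem_line (this ▸ mem_line_self _ _)

/-- The six translates of `A`. -/
theorem smul_A_cases {g : G} (hg : g ∈ S.C) :
    g • S.A = S.A ∨ g • S.A = S.v • S.A ∨ g • S.A = S.s • S.A ∨ g • S.A = S.t • S.A ∨
      g • S.A = S.k • S.A ∨ g • S.A = (S.k * S.k) • S.A := by
  have hkk := S.C.mul_mem S.k_mem S.k_mem
  have hkkQ : (S.k * S.k) • S.Q = S.P := by rw [mul_smul, S.k_Q, S.k_smul_R]
  have key : ∀ h ∈ S.C, g • S.P = h • S.P → g • S.Q = h • S.Q → g • S.A = h • S.A :=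
    fun h hh => S.smul_A_congr hg hh
  have hne : g • S.P ≠ g • S.Q := fun h => S.P_ne_Q (smul_left_cancel g h)
  rcases S.orbit_eq hg with hP | hP | hP <;> rcases S.Q_perm hg with hQ | hQ | hQ
  all_goals first
    | exact absurd (hP.trans hQ.symm) hne
    | exact Or.inl ((key 1 (one_mem _) (hP.trans (one_smul G S.P).symm)
        (hQ.trans (one_smul G S.Q).symm)).trans (one_smul _ _))
    | exact Or.inr (Or.inl (key S.v S.v_mem (hP.trans S.v_P.symm) (hQ.trans S.v_Q.symm)))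
    | exact Or.inr (Or.inr (Or.inl (key S.s S.s_mem (hP.trans S.s_P.symm) (hQ.trans S.s_Q.symm))))
    | exact Or.inr (Or.inr (Or.inr (Or.inl (key S.t S.t_mem (hP.trans S.t_P.symm)
        (hQ.trans S.t_Q.symm)))))
    | exact Or.inr (Or.inr (Or.inr (Or.inr (Or.inl (key S.k S.k_mem (hP.trans S.k_P.symm)
        (hQ.trans S.k_Q.symm))))))
    | exact Or.inr (Or.inr (Or.inr (Or.inr (Or.inr (key _ hkk (hP.trans S.kk_smul_P.symm)
        (hQ.trans hkkQ.symm))))))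

end Setup

end Cfsg.Agent.Lib.Recog7920
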