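import Mathlib
import Cfsg.Agent.Lib.Recog7920.Orbits

/-!
A simple group of order 7920: the orbit of `Q` under `P` and the orbit of `P` under `Q` span the
same ten subgroups.
-/

set_option autoImplicit false
set_option linter.style.haveILetI false

namespace Cfsg.Agent.Lib.Recog7920

open Subgroup MulAction Cfsg Cfsg.Agent.Lib.SmallGroups Cfsg.Agent.Lib.Order7920
open scoped Pointwise

universe u

variable {G : Type u} [Group G] [Finite G] [Fact (Nat.Prime 3)]

namespace Setup

variable (S : Setup G)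

theorem card_N : Nat.card (normalizer ((S.P : Subgroup G) : Set G)) = 144 :=
  card_normalizer_sylow_three S.hG S.P

/-- An invariant set on which the two subgroups are transitive has size dividing 55. -/
theorem ncard_dvd {M : Set (Sylow 3 G)} (hPM : S.P ∈ M)
    (hp : ∀ p ∈ (S.P : Subgroup G), p • M = M) (hC : ∀ g ∈ S.C, g • M = M)
    (horb : M ⊆ orbit (stabilizer G M) S.P) : M.ncard ∣ 55 := by
  set H := stabilizer G M with hH
  have horb' : orbit H S.P = M := by
    refine Set.Subset.antisymm ?_ horb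
    rintro _ ⟨h, rfl⟩
    have := Set.smul_mem_smul_set (a := (h : G)) hPM
    rwa [show (h : G) • M = M from h.2] at this
  have hdvd : 144 ∣ Nat.card (stabilizer H S.P) := by
    set K := H ⊓ normalizer ((S.P : Subgroup G) : Set G)
    have hK : Nat.card (stabilizer H S.P) = Nat.card K :=
      Nat.card_congr
        { toFun := fun g => ⟨g.1.1, g.1.2, (smul_sylow_eq_iff _ _).mp g.2⟩
          invFun := fun g => ⟨⟨g.1, g.2.1⟩, (smul_sylow_eq_iff _ _).mpr g.2.2⟩
          left_inv := fun g => rfl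
          right_inv := fun g => rfl }
    rw [hK]
    refine Nat.Coprime.mul_dvd_of_dvd_of_dvd (m := 16) (n := 9) (by norm_num) ?_ ?_
    · rw [← S.card_W]
      exact card_dvd_of_le (le_inf (fun w hw => hC w hw.1) inf_le_right)
    · rw [← card_sylow_three_eq S.hG S.P]
      exact card_dvd_of_le (le_inf (fun p hp' => hp p hp') le_normalizer)
  have hm := (stabilizer H S.P).card_mul_index
  rw [MulAction.index_stabilizer, horb'] at hm
  have hH' : Nat.card H ∣ 7920 := S.hG.2 ▸ H.card_subgroup_dvd_card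
  rw [← hm] at hH'
  obtain ⟨c, hc⟩ := hdvd
  rw [hc] at hH'
  have h1 : 144 * M.ncard ∣ 144 * 55 := (Dvd.intro c (by ring)).trans hH'
  exact Nat.dvd_of_mul_dvd_mul_left (by norm_num) h1

include S in
theorem card_sylow : Nat.card (Sylow 3 G) = 55 := card_sylow_three S.hG

include S in
/-- Two involutions fix equally many Sylow `3`-subgroups. -/
theorem card_fix_eq {a b : G} (ha : orderOf a = 2) (hb : orderOf b = 2) :
    Nat.card (fixedBy (Sylow 3 G) a) = Nat.card (fixedBy (Sylow 3 G) b) := by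
  obtain ⟨c, rfl⟩ := isConj_iff.mp (isConj_involutions S.hG ha hb)
  refine Nat.card_congr
    { toFun := fun x => ⟨c⁻¹ • x.1, ?_⟩
      invFun := fun x => ⟨c • x.1, ?_⟩
      left_inv := fun x => Subtype.ext (smul_inv_smul _ _)
      right_inv := fun x => Subtype.ext (inv_smul_smul _ _) }
  · have hx : (c * b * c⁻¹) • x.1 = x.1 := x.2
    show b • c⁻¹ • x.1 = c⁻¹ • x.1
    have e : b • c⁻¹ • x.1 = c⁻¹ • ((c * b * c⁻¹) • x.1) := by
      rw [smul_smul, smul_smul]
      group
    rw [e, hx]
  · have hx : b • x.1 = x.1 := x.2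
    show (c * b * c⁻¹) • c • x.1 = c • x.1
    have e : (c * b * c⁻¹) • c • x.1 = c • (b • x.1) := by
      rw [smul_smul, smul_smul]
      group
    rw [e, hx]

/-- The points moved by `z` come in regular orbits of `D`. -/
theorem dvd_moved : 8 ∣ Nat.card {X : Sylow 3 G | S.z • X ≠ X} := by
  have hcomm : ∀ d ∈ S.D, ∀ X : Sylow 3 G, S.z • X ≠ X → S.z • (d • X) ≠ d • X := by
    intro d hd X hX h
    refine hX (smul_left_cancel d ?_)
    rw [smul_smul, (S.mem_C.mp (S.mem_D.mp hd).1).eq, mul_smul, h]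
  letI act : MulAction S.D {X : Sylow 3 G | S.z • X ≠ X} :=
    { smul := fun d X => ⟨(d : G) • X.1, hcomm d d.2 X.1 X.2⟩
      one_smul := fun X => Subtype.ext (one_smul G X.1)
      mul_smul := fun a b X => Subtype.ext (mul_smul (a : G) b X.1) }
  refine dvd_card_of_index (G := S.D) fun X => ?_
  have hbot : stabilizer S.D X = ⊥ := by
    refine eq_bot_iff.mpr fun d hd => mem_bot.mpr (Subtype.ext ?_)
    by_contra hd1
    have h : (d : G) • X.1 = X.1 := congrArg Subtype.val (show d • X = X from hd)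
    refine X.2 ?_
    exact (zpowers_le.mpr (show (d : G) ∈ stabilizer G X.1 from h) (S.z_mem_zpowers d.2 hd1) :)
  rw [hbot, index_bot, S.card_D]

/-- The case in which the six translates are pairwise different is impossible. -/
theorem exists_stab : ∃ g ∈ S.C, g • S.A = S.A ∧ g ∉ S.D := by
  by_contra hc
  push Not at hc
  obtain ⟨X, hX⟩ := S.A_nonempty
  have hfree : ∀ g ∈ S.C, g • X = X → g = 1 := by
    intro g hg h
    refine S.D_free (hc g hg ?_) hX h
    have := S.smul_A_eq hg (one_mem _) hX hX (by rw [h, one_smul])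
    rwa [one_smul] at this
  have hinj : Function.Injective fun g : S.C => (g : G) • X := by
    intro a b h
    refine Subtype.ext (inv_mul_eq_one.mp (hfree _ (S.C.mul_mem (inv_mem b.2) a.2) ?_)).symm
    rw [mul_smul]
    exact inv_smul_eq_iff.mpr h
  have hvmove : ∀ g ∈ S.C, S.v • (g • X) ≠ g • X := by
    intro g hg h
    have h1 := hfree _ (S.C.mul_mem (S.C.mul_mem (inv_mem hg) S.v_mem) hg)
      (by rw [mul_smul, mul_smul, h, inv_smul_smul])
    rw [mul_assoc, inv_mul_eq_one, eq_comm, mul_eq_right] at h1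
    have := S.orderOf_v
    rw [h1, orderOf_one] at this
    omega
  have hT : ∀ g ∈ S.C, g • X ≠ S.Q ∧ g • X ≠ S.R := by
    intro g hg
    obtain ⟨hXP, hXQ, hXR⟩ := S.A_subset hX
    have hgi := S.C.inv_mem hg
    constructor <;> intro h <;> rw [eq_comm, ← inv_smul_eq_iff] at h
    · rcases S.Q_perm hgi with e | e | e
      exacts [hXP (h.symm.trans e), hXQ (h.symm.trans e), hXR (h.symm.trans e)]
    · rcases S.R_perm hgi with e | e | e
      exacts [hXP (h.symm.trans e), hXQ (h.symm.trans e), hXR (h.symm.trans e)]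
  let f : (fixedBy (Sylow 3 G) S.v ⊕ S.C) ⊕ Bool → Sylow 3 G :=
    Sum.elim (Sum.elim Subtype.val fun g => (g : G) • X) fun b => cond b S.Q S.R
  have hvQR : ∀ b : Bool, S.v • cond b S.Q S.R ≠ cond b S.Q S.R := by
    intro b
    cases b
    · rw [cond_false, S.v_R]; exact S.Q_ne_R
    · rw [cond_true, S.v_Q]; exact S.Q_ne_R.symm
  have hf : Function.Injective f := by
    refine (Subtype.val_injective.sumElim hinj fun a g h => ?_).sumElim ?_ ?_
    · exact hvmove g g.2 (h ▸ a.2)
    · intro a b h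
      cases a <;> cases b <;> simp_all [S.Q_ne_R, S.Q_ne_R.symm]
    · rintro (a | g) b h
      · exact hvQR b (h ▸ a.2)
      · cases b
        · exact (hT g g.2).2 h
        · exact (hT g g.2).1 h
  have hle := Nat.card_le_card_of_injective f hf
  rw [Nat.card_sum, Nat.card_sum, S.card_C, S.card_sylow,
    show Nat.card Bool = 2 by rw [Nat.card_eq_fintype_card, Fintype.card_bool],
    S.card_fix_eq S.orderOf_v S.hz] at hle
  have h8 := S.dvd_moved
  have hsum := card_fixedBy_add_moved (X := Sylow 3 G) S.z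
  rw [S.card_sylow] at hsum
  omega

theorem kk_Q : (S.k * S.k) • S.Q = S.P := by rw [mul_smul, S.k_Q, S.k_smul_R]

theorem kk_R : (S.k * S.k) • S.R = S.Q := by rw [mul_smul, S.k_smul_R, S.k_P]

/-- The case of a cyclic identification is impossible. -/
theorem not_k : S.k • S.A ≠ S.A := by
  intro hk
  have hkk : (S.k * S.k) • S.A = S.A := by rw [mul_smul, hk, hk]
  have hs : S.s • S.A = S.v • S.A := by
    conv_lhs => rw [← hk]
    rw [smul_smul]
    refine S.smul_A_congr (S.C.mul_mem S.s_mem S.k_mem) S.v_mem ?_ ?_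
    · rw [mul_smul, S.k_P, S.s_Q, S.v_P]
    · rw [mul_smul, S.k_Q, S.v_Q]
      simp only [s, mul_smul, S.k_smul_R, S.v_P, S.k_P, S.k_Q]
  have ht : S.t • S.A = S.v • S.A := by
    conv_lhs => rw [← hkk]
    rw [smul_smul]
    refine S.smul_A_congr (S.C.mul_mem S.t_mem (S.C.mul_mem S.k_mem S.k_mem)) S.v_mem ?_ ?_
    · rw [mul_smul, S.kk_smul_P, S.t_R, S.v_P]
    · rw [mul_smul, S.kk_Q, S.t_P, S.v_Q]
  have hall : ∀ g ∈ S.C, g • S.A = S.A ∨ g • S.A = S.v • S.A := by
    intro g hg
    rcases S.smul_A_cases hg with h | h | h | h | h | h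
    exacts [Or.inl h, Or.inr h, Or.inr (h.trans hs), Or.inr (h.trans ht), Or.inl (h.trans hk),
      Or.inl (h.trans hkk)]
  set M : Set (Sylow 3 G) := insert S.P (line S.P S.Q ∪ line S.P S.R) with hM
  have hvl : S.v • line S.P S.Q = line S.P S.R := by rw [smul_line, S.v_P, S.v_Q]
  have hPR : line S.P S.R = insert S.R (S.v • S.A) := by rw [← hvl, S.smul_line_PQ, S.v_Q]
  have hp : ∀ p ∈ (S.P : Subgroup G), p • M = M := by
    intro p hp
    rw [hM, Set.smul_set_insert, Set.smul_set_union, smul_self_of_mem hp, smul_line_self hp,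
      smul_line_self hp]
  have hC : ∀ g ∈ S.C, g • M = M := by
    intro g hg
    suffices hsub : ∀ g ∈ S.C, g • M ⊆ M by
      refine Set.Subset.antisymm (hsub g hg) ?_
      rw [Set.subset_smul_set_iff]
      exact hsub _ (inv_mem hg)
    clear g hg
    intro g hg
    have hT : ∀ Y, (Y = S.P ∨ Y = S.Q ∨ Y = S.R) → Y ∈ M := by
      rintro Y (rfl | rfl | rfl)
      · exact Or.inl rfl
      · exact Or.inr (Or.inl (mem_line_self _ _))
      · exact Or.inr (Or.inr (mem_line_self _ _))
    have hA : S.A ⊆ M := fun Y hY =>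
      Or.inr (Or.inl (S.line_PQ ▸ Set.mem_insert_of_mem _ hY))
    have hvA : S.v • S.A ⊆ M := fun Y hY =>
      Or.inr (Or.inr (hPR ▸ Set.mem_insert_of_mem _ hY))
    have hgA : ∀ h ∈ S.C, h • S.A ⊆ M := fun h hh => by
      rcases hall h hh with e | e <;> rw [e]
      · exact hA
      · exact hvA
    conv_lhs => rw [hM, Set.smul_set_insert, Set.smul_set_union, S.smul_line_PQ, hPR,
      Set.smul_set_insert, smul_smul]
    refine Set.insert_subset (hT _ (S.orbit_eq hg)) (Set.union_subset
      (Set.insert_subset (hT _ (S.Q_perm hg)) (hgA g hg))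
      (Set.insert_subset (hT _ (S.R_perm hg)) (hgA _ (S.C.mul_mem hg S.v_mem))))
  have horb : M ⊆ orbit (stabilizer G M) S.P := by
    have h1 : ∀ Y ∈ line S.P S.Q, Y ∈ orbit (stabilizer G M) S.P := by
      rintro _ ⟨p, hp', rfl⟩
      exact ⟨⟨p * S.k, (stabilizer G M).mul_mem (hp p hp') (hC _ S.k_mem)⟩,
        show (p * S.k) • S.P = p • S.Q by rw [mul_smul, S.k_P]⟩
    rintro Y (rfl | hY | hY)
    · exact mem_orbit_self _
    · exact h1 Y hY
    · rw [← hvl] at hY
      obtain ⟨Y', hY', rfl⟩ := hY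
      obtain ⟨g, hg⟩ := h1 Y' hY'
      refine ⟨⟨S.v * g, (stabilizer G M).mul_mem (hC _ S.v_mem) g.2⟩, ?_⟩
      show (S.v * (g : G)) • S.P = S.v • Y'
      rw [mul_smul, ← hg]
      rfl
  have h19 : M.ncard = 19 := by
    have h9 : (line S.P S.Q).ncard = 9 := by
      rw [S.line_PQ, Set.ncard_insert_of_notMem fun h => (S.A_subset h).2.1 rfl, S.ncard_A]
    have h9' : (line S.P S.R).ncard = 9 := by rw [← hvl, Set.ncard_smul_set, h9]
    have hd : Disjoint (line S.P S.Q) (line S.P S.R) := by
      rw [Set.disjoint_left]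
      intro Y h1 h2
      exact S.R_notMem_line ((line_eq_of_mem h2).symm.trans (line_eq_of_mem h1) ▸ mem_line_self _ _)
    have hP : S.P ∉ line S.P S.Q ∪ line S.P S.R := by
      rintro (⟨p, hp', h⟩ | ⟨p, hp', h⟩)
      · exact S.P_ne_Q (smul_left_cancel p ((smul_self_of_mem hp').trans h.symm))
      · exact S.R_ne_P (smul_left_cancel p ((smul_self_of_mem hp').trans h.symm)).symm
    rw [hM, Set.ncard_insert_of_notMem hP, Set.ncard_union_eq hd, h9, h9']
  have := S.ncard_dvd (Set.mem_insert _ _) hp hC horb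
  rw [h19] at this
  norm_num at this

/-- The case of identification of orbits with a common centre is impossible. -/
theorem not_t : S.t • S.A ≠ S.A := by
  intro ht
  have hkk := S.C.mul_mem S.k_mem S.k_mem
  set l := line S.P S.Q with hl
  have hrep : ∀ g h, g ∈ S.C → h ∈ S.C → g • S.P = h • S.P → g • S.Q = h • S.Q → g • l = h • l := by
    intro g h hg hh hP hQ
    rw [hl, S.smul_line_PQ, S.smul_line_PQ, hQ, S.smul_A_congr hg hh hP hQ]
  have htl : S.t • l = l := by
    rw [hl, S.smul_line_PQ, ht, S.t_Q, S.line_PQ]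
  have hktl : (S.k * S.t) • l = S.k • l := by rw [mul_smul, htl]
  have hkktl : (S.k * S.k * S.t) • l = (S.k * S.k) • l := by rw [mul_smul, htl]
  have hk2 : (S.k * S.k) • l = line S.R S.P := by rw [hl, smul_line, S.kk_smul_P, S.kk_Q]
  have h2' : S.k • l = line S.P S.R := by
    rw [← hktl, hl, smul_line, mul_smul, mul_smul, S.t_P, S.k_smul_R, S.t_Q, S.k_Q]
  have h3' : (S.k * S.k) • l = line S.Q S.P := by
    rw [← hkktl, hl, smul_line]
    simp only [mul_smul, S.t_P, S.t_Q, S.k_smul_R, S.k_Q, S.k_P]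
  -- the three lines
  have hall : ∀ g ∈ S.C, g • l = l ∨ g • l = S.k • l ∨ g • l = (S.k * S.k) • l := by
    intro g hg
    have hne : g • S.P ≠ g • S.Q := fun h => S.P_ne_Q (smul_left_cancel g h)
    have hkt := S.C.mul_mem S.k_mem S.t_mem
    have hkkt := S.C.mul_mem hkk S.t_mem
    have e1 : (S.k * S.t) • S.P = S.P := by rw [mul_smul, S.t_P, S.k_smul_R]
    have e2 : (S.k * S.t) • S.Q = S.R := by rw [mul_smul, S.t_Q, S.k_Q]
    have e3 : (S.k * S.k * S.t) • S.P = S.Q := by rw [mul_smul, S.t_P, S.kk_R]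
    have e4 : (S.k * S.k * S.t) • S.Q = S.P := by rw [mul_smul, S.t_Q, S.kk_Q]
    rcases S.orbit_eq hg with hP | hP | hP <;> rcases S.Q_perm hg with hQ | hQ | hQ
    all_goals first
      | exact absurd (hP.trans hQ.symm) hne
      | exact Or.inl ((hrep g 1 hg (one_mem _) (hP.trans (one_smul G S.P).symm)
          (hQ.trans (one_smul G S.Q).symm)).trans (one_smul _ _))
      | exact Or.inl ((hrep g _ hg S.t_mem (hP.trans S.t_P.symm) (hQ.trans S.t_Q.symm)).trans htl)
      | exact Or.inr (Or.inl (hrep g _ hg S.k_mem (hP.trans S.k_P.symm) (hQ.trans S.k_Q.symm)))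
      | exact Or.inr (Or.inl ((hrep g _ hg hkt (hP.trans e1.symm) (hQ.trans e2.symm)).trans hktl))
      | exact Or.inr (Or.inr (hrep g _ hg hkk (hP.trans S.kk_smul_P.symm) (hQ.trans S.kk_Q.symm)))
      | exact Or.inr (Or.inr ((hrep g _ hg hkkt (hP.trans e3.symm) (hQ.trans e4.symm)).trans hkktl))
  set M : Set (Sylow 3 G) := l ∪ S.k • l ∪ (S.k * S.k) • l with hM
  have hC : ∀ g ∈ S.C, g • M = M := by
    intro g hg
    suffices hsub : ∀ g ∈ S.C, g • M ⊆ M by
      refine Set.Subset.antisymm (hsub g hg) ?_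
      rw [Set.subset_smul_set_iff]
      exact hsub _ (inv_mem hg)
    clear g hg
    intro g hg
    have hmem : ∀ h ∈ S.C, h • l ⊆ M := fun h hh => by
      rcases hall h hh with e | e | e <;> rw [e, hM]
      · exact Set.subset_union_of_subset_left Set.subset_union_left _
      · exact Set.subset_union_of_subset_left Set.subset_union_right _
      · exact Set.subset_union_right
    rw [hM, Set.smul_set_union, Set.smul_set_union, smul_smul, smul_smul]
    exact Set.union_subset (Set.union_subset (hmem g hg) (hmem _ (S.C.mul_mem hg S.k_mem)))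
      (hmem _ (S.C.mul_mem hg hkk))
  have hPM : S.P ∈ (S.k * S.k) • l := by rw [hk2]; exact mem_line_self _ _
  have hp3 : ∀ p ∈ (S.P : Subgroup G), p • ((S.k * S.k) • l) = (S.k * S.k) • l := by
    intro p hp
    by_cases hp1 : p = 1
    · rw [hp1, one_smul]
    have hY : p • S.Q ∈ S.A := ⟨p, hp, hp1, rfl⟩
    have hY2 : p • S.Q ∈ line S.R S.Q := by
      have := S.smul_line_PQ S.t
      rw [smul_line, S.t_P, S.t_Q] at this
      rw [this, ht]
      exact Set.mem_insert_of_mem _ hY
    obtain ⟨r, hr, hrY⟩ := hY2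
    have h1 : line (p • S.Q) (r • S.P) = (S.k * S.k) • l := by
      rw [← hrY, ← smul_line, ← h3', hk2, smul_line_self hr]
    have h2 : line (p • S.Q) S.P = (S.k * S.k) • l := by
      rw [line_eq_of_mem (h1.symm ▸ hPM : S.P ∈ line (p • S.Q) (r • S.P)), h1]
    conv_lhs => rw [h3', smul_line, smul_self_of_mem hp, h2]
  have hp : ∀ p ∈ (S.P : Subgroup G), p • M = M := by
    intro p hp
    rw [hM, Set.smul_set_union, Set.smul_set_union, hp3 p hp, h2', smul_line_self hp, hl,
      smul_line_self hp]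
  have horb : M ⊆ orbit (stabilizer G M) S.P := by
    have h1 : ∀ Y ∈ l, Y ∈ orbit (stabilizer G M) S.P := by
      rintro _ ⟨p, hp', rfl⟩
      exact ⟨⟨p * S.k, (stabilizer G M).mul_mem (hp p hp') (hC _ S.k_mem)⟩,
        show (p * S.k) • S.P = p • S.Q by rw [mul_smul, S.k_P]⟩
    have h2 : ∀ h ∈ S.C, ∀ Y ∈ h • l, Y ∈ orbit (stabilizer G M) S.P := by
      rintro h hh _ ⟨Y', hY', rfl⟩
      obtain ⟨g, hg⟩ := h1 Y' hY'
      refine ⟨⟨h * g, (stabilizer G M).mul_mem (hC _ hh) g.2⟩, ?_⟩
      show (h * (g : G)) • S.P = h • Y'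
      rw [mul_smul, ← hg]
      rfl
    rintro Y ((hY | hY) | hY)
    exacts [h1 Y hY, h2 _ S.k_mem Y hY, h2 _ hkk Y hY]
  have h27 : M.ncard = 27 := by
    have h9 : l.ncard = 9 := by
      rw [hl, S.line_PQ, Set.ncard_insert_of_notMem fun h => (S.A_subset h).2.1 rfl, S.ncard_A]
    have hd : Disjoint l (S.k • l) := by
      rw [Set.disjoint_left, h2', hl]
      intro Y h1 h2
      exact S.R_notMem_line ((line_eq_of_mem h2).symm.trans (line_eq_of_mem h1) ▸ mem_line_self _ _)
    have hd2 : Disjoint (S.k • l) ((S.k * S.k) • l) := by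
      rw [mul_smul]; exact (Set.disjoint_smul_set).mpr hd
    have hd3 : Disjoint l ((S.k * S.k) • l) := by
      have h3 : Disjoint ((S.k * S.k) • l) ((S.k * S.k) • S.k • l) := (Set.disjoint_smul_set).mpr hd
      rw [smul_smul (S.k * S.k), mul_assoc, S.k_pow_three, one_smul] at h3
      exact h3.symm
    rw [hM, Set.ncard_union_eq (Set.disjoint_union_left.mpr ⟨hd3, hd2⟩), Set.ncard_union_eq hd,
      Set.ncard_smul_set, Set.ncard_smul_set, h9]
  have := S.ncard_dvd (Or.inr hPM) hp hC horb
  rw [h27] at this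
  norm_num at this

/-- The orbit of `Q` under `P` and the orbit of `P` under `Q` have the same other points. -/
theorem s_A : S.s • S.A = S.A := by
  by_contra hs
  obtain ⟨g, hg, hgA, hgD⟩ := S.exists_stab
  have key : ∀ h ∈ S.C, h • S.A = S.A → g • S.P = h • S.P ∧ g • S.Q = h • S.Q → h ∉ S.D → False :=
    fun h hh hA _ hD => by
      have hkk : (S.k * S.k) • S.A = S.A → False := fun e => S.not_k (by
        conv_lhs => rw [← e]
        rw [smul_smul, S.k_pow_three, one_smul])
      rcases S.orbit_eq hh with hP | hP | hP <;> rcases S.Q_perm hh with hQ | hQ | hQ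
      all_goals first
        | exact S.P_ne_Q (smul_left_cancel h (hP.trans hQ.symm))
        | exact hD (S.mem_D.mpr ⟨hh, hP, hQ⟩)
        | exact S.v_A_ne ((S.smul_A_congr S.v_mem hh (S.v_P.trans hP.symm)
            (S.v_Q.trans hQ.symm)).trans hA)
        | exact hs ((S.smul_A_congr S.s_mem hh (S.s_P.trans hP.symm)
            (S.s_Q.trans hQ.symm)).trans hA)
        | exact S.not_t ((S.smul_A_congr S.t_mem hh (S.t_P.trans hP.symm)
            (S.t_Q.trans hQ.symm)).trans hA)
        | exact S.not_k ((S.smul_A_congr S.k_mem hh (S.k_P.trans hP.symm)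
            (S.k_Q.trans hQ.symm)).trans hA)
        | exact hkk ((S.smul_A_congr (S.C.mul_mem S.k_mem S.k_mem) hh (S.kk_smul_P.trans hP.symm)
            (S.kk_Q.trans hQ.symm)).trans hA)
  exact key g hg hgA ⟨rfl, rfl⟩ hgD

end Setup

end Cfsg.Agent.Lib.Recog7920
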