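import Mathlib
import Cfsg.Agent.Lib.Recog7920.Clique

/-!
A simple group of order 7920: eleven sets of ten Sylow 3-subgroups, any two with one common
member, permuted sharply 4-transitively.
-/

set_option autoImplicit false
set_option linter.style.haveILetI false

namespace Cfsg.Agent.Lib.Recog7920

open Subgroup MulAction Cfsg Cfsg.Agent.Lib.SmallGroups Cfsg.Agent.Lib.Order7920
open scoped Pointwise

universe u

variable {G : Type u} [Group G] [Finite G]

theorem card_eq_orbit_mul {X : Type*} [MulAction G X] (H : Subgroup G) (x : X) :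
    Nat.card H = (orbit H x).ncard * Nat.card (H ⊓ stabilizer G x : Subgroup G) := by
  have h : Nat.card (stabilizer H x) = Nat.card (H ⊓ stabilizer G x : Subgroup G) :=
    Nat.card_congr
      { toFun := fun g => ⟨g.1.1, g.1.2, g.2⟩
        invFun := fun g => ⟨⟨g.1, g.2.1⟩, g.2.2⟩
        left_inv := fun g => rfl
        right_inv := fun g => rfl }
  rw [← (stabilizer H x).card_mul_index, MulAction.index_stabilizer, h, mul_comm]

theorem eq_diff_of_card {α : Type*} {s t u : Set α} (ht : t.Finite) (hu : u ⊆ t)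
    (hs : s ⊆ t \ u) (hc : t.ncard ≤ s.ncard + u.ncard) : s = t \ u := by
  refine Set.eq_of_subset_of_ncard_le hs ?_ (ht.subset Set.sdiff_subset)
  rw [Set.ncard_sdiff hu (ht.subset hu)]
  omega

variable [Fact (Nat.Prime 3)]

namespace Setup

variable (S : Setup G)

/-- The subgroup `P` with its nine neighbours towards `Q`. -/
noncomputable def L : Set (Sylow 3 G) := insert S.P (line S.P S.Q)

theorem L_eq : S.L = insert S.P (insert S.Q S.A) := by rw [L, S.line_PQ]

theorem P_mem_L : S.P ∈ S.L := Set.mem_insert _ _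

theorem Q_mem_L : S.Q ∈ S.L := Set.mem_insert_of_mem _ (mem_line_self _ _)

theorem R_notMem_L : S.R ∉ S.L := fun h => h.elim S.R_ne_P S.R_notMem_line

theorem ncard_L : S.L.ncard = 10 := by
  rw [L_eq, Set.ncard_insert_of_notMem fun h => h.elim S.P_ne_Q fun h => (S.A_subset h).1 rfl,
    Set.ncard_insert_of_notMem fun h => (S.A_subset h).2.1 rfl, S.ncard_A]

theorem smul_P_L {p : G} (hp : p ∈ (S.P : Subgroup G)) : p • S.L = S.L := by
  rw [L, Set.smul_set_insert, smul_self_of_mem hp, smul_line_self hp]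

theorem smul_D_L {d : G} (hd : d ∈ S.D) : d • S.L = S.L := by
  rw [L_eq, Set.smul_set_insert, Set.smul_set_insert, (S.mem_D.mp hd).2.1, (S.mem_D.mp hd).2.2,
    S.smul_A_of_mem_D hd]

theorem smul_s_L : S.s • S.L = S.L := by
  rw [L_eq, Set.smul_set_insert, Set.smul_set_insert, S.s_P, S.s_Q, S.s_A, Set.insert_comm]

/-- The second set. -/
noncomputable def L' : Set (Sylow 3 G) := S.v • S.L

/-- The third set. -/
noncomputable def L'' : Set (Sylow 3 G) := S.k • S.L

theorem L'_eq : S.L' = insert S.P (line S.P S.R) := by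
  rw [L', L, Set.smul_set_insert, smul_line, S.v_P, S.v_Q]

theorem L''_eq : S.L'' = insert S.Q (line S.Q S.R) := by
  rw [L'', L, Set.smul_set_insert, smul_line, S.k_P, S.k_Q]

theorem inter_eq : S.L ∩ S.L' = {S.P} := by
  rw [L'_eq]
  ext X
  constructor
  · rintro ⟨rfl | h1, h2⟩
    · rfl
    · rcases h2 with rfl | h2
      · rfl
      · exact absurd ((line_eq_of_mem h2).symm.trans (line_eq_of_mem h1) ▸ mem_line_self _ _)
          S.R_notMem_line
  · rintro rfl
    exact ⟨S.P_mem_L, Set.mem_insert _ _⟩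

theorem L'_ne : S.L' ≠ S.L := fun h =>
  S.R_notMem_L (h ▸ S.L'_eq.symm ▸ Set.mem_insert_of_mem _ (mem_line_self _ _))

theorem L''_ne : S.L'' ≠ S.L := fun h =>
  S.R_notMem_L (h ▸ S.L''_eq.symm ▸ Set.mem_insert_of_mem _ (mem_line_self _ _))

theorem L''_ne' : S.L'' ≠ S.L' := by
  intro h
  have h1 : S.Q ∈ S.L ∩ S.L' := ⟨S.Q_mem_L, h ▸ S.L''_eq.symm ▸ Set.mem_insert _ _⟩
  rw [S.inter_eq] at h1
  exact S.P_ne_Q h1.symm

theorem smul_P_L' {p : G} (hp : p ∈ (S.P : Subgroup G)) : p • S.L' = S.L' := by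
  have hv : S.v⁻¹ • S.P = S.P := inv_smul_eq_iff.mpr S.v_P.symm
  have h := S.smul_P_L (conj_mem_of_fix hv hp)
  rw [L']
  conv_rhs => rw [← h]
  rw [smul_smul, smul_smul]
  group

theorem smul_D_L' {d : G} (hd : d ∈ S.D) : d • S.L' = S.L' := by
  have h := S.smul_D_L (S.conj_mem_D (inv_mem S.v_mem) hd)
  rw [L']
  conv_rhs => rw [← h]
  rw [smul_smul, smul_smul]
  group

theorem smul_D_L'' {d : G} (hd : d ∈ S.D) : d • S.L'' = S.L'' := by
  rw [L''_eq, Set.smul_set_insert, smul_line, (S.mem_D.mp hd).2.2, S.fix_R hd]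

theorem card_dvd_of_contains {K : Subgroup G} (hP : ∀ p ∈ (S.P : Subgroup G), p ∈ K)
    (hD : ∀ d ∈ S.D, d ∈ K) : 72 ∣ Nat.card K := by
  refine Nat.Coprime.mul_dvd_of_dvd_of_dvd (m := 8) (n := 9) (by norm_num) ?_ ?_
  · exact S.card_D ▸ card_dvd_of_le hD
  · exact card_sylow_three_eq S.hG S.P ▸ card_dvd_of_le hP

/-- The part of the stabilizer of `L` fixing `P`. -/
theorem card_K1 : Nat.card (stabilizer G S.L ⊓ stabilizer G S.P : Subgroup G) = 72 := by
  set K := stabilizer G S.L ⊓ stabilizer G S.P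
  have h144 : Nat.card (stabilizer G S.P) = 144 := by
    rw [Sylow.stabilizer_eq_normalizer]; exact S.card_N
  obtain ⟨c, hc⟩ := S.card_dvd_of_contains (K := K)
    (fun p hp => ⟨S.smul_P_L hp, smul_self_of_mem hp⟩)
    fun d hd => ⟨S.smul_D_L hd, (S.mem_D.mp hd).2.1⟩
  have hd : Nat.card K ∣ 144 := h144 ▸ card_dvd_of_le inf_le_right
  have hne : Nat.card K ≠ 144 := fun h => by
    have heq : K = stabilizer G S.P :=
      Subgroup.eq_of_le_of_card_ge inf_le_right (by rw [h, h144])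
    exact S.L'_ne (heq.symm ▸ (S.v_P : S.v ∈ stabilizer G S.P) : S.v ∈ K).1
  rw [hc] at hd hne ⊢
  have := Nat.dvd_of_mul_dvd_mul_left (k := 72) (by norm_num) (show 72 * c ∣ 72 * 2 from hd)
  rcases (Nat.dvd_prime Nat.prime_two).mp this with rfl | rfl
  · norm_num
  · norm_num at hne

theorem orbit_stab_L : orbit (stabilizer G S.L) S.P = S.L := by
  refine Set.Subset.antisymm ?_ ?_
  · rintro _ ⟨h, rfl⟩
    have := Set.smul_mem_smul_set (a := (h : G)) S.P_mem_L
    rwa [show (h : G) • S.L = S.L from h.2] at this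
  · rintro X (rfl | ⟨p, hp, rfl⟩)
    · exact mem_orbit_self _
    · refine ⟨⟨p * S.s, mul_mem (S.smul_P_L hp) S.smul_s_L⟩, ?_⟩
      show (p * S.s) • S.P = p • S.Q
      rw [mul_smul, S.s_P]

theorem card_H : Nat.card (stabilizer G S.L) = 720 := by
  rw [card_eq_orbit_mul _ S.P, S.orbit_stab_L, S.ncard_L, S.card_K1]

theorem ncard_orbit : (orbit G S.L).ncard = 11 := by
  have h := (stabilizer G S.L).card_mul_index
  rw [S.card_H, MulAction.index_stabilizer, S.hG.2] at h
  omega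

theorem finite_orbit : (orbit G S.L).Finite := Set.toFinite _

theorem card_K : Nat.card (stabilizer G S.L ⊓ stabilizer G S.L' : Subgroup G) = 72 := by
  refine Nat.dvd_antisymm ?_ (S.card_dvd_of_contains
    (fun p hp => ⟨S.smul_P_L hp, S.smul_P_L' hp⟩) fun d hd => ⟨S.smul_D_L hd, S.smul_D_L' hd⟩)
  rw [← S.card_K1]
  refine card_dvd_of_le fun g hg => ⟨hg.1, ?_⟩
  have h : g • (S.L ∩ S.L') = S.L ∩ S.L' := by
    rw [Set.smul_set_inter, show g • S.L = S.L from hg.1, show g • S.L' = S.L' from hg.2]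
  rw [S.inter_eq, Set.smul_set_singleton, Set.singleton_eq_singleton_iff] at h
  exact h

theorem orbit_stab_L' : orbit (stabilizer G S.L) S.L' = orbit G S.L \ {S.L} := by
  refine eq_diff_of_card S.finite_orbit (Set.singleton_subset_iff.mpr (mem_orbit_self _)) ?_ ?_
  · rintro _ ⟨h, rfl⟩
    refine ⟨⟨(h : G) * S.v, mul_smul _ _ _⟩, fun e => S.L'_ne ?_⟩
    exact smul_left_cancel (h : G) ((Set.mem_singleton_iff.mp e).trans h.2.symm)
  · have h := card_eq_orbit_mul (stabilizer G S.L) S.L'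
    rw [S.card_H, S.card_K] at h
    rw [S.ncard_orbit, Set.ncard_singleton]
    omega

theorem through_P {M : Set (Sylow 3 G)} (hM : M ∈ orbit G S.L) (hPM : S.P ∈ M) :
    M = S.L ∨ M = S.L' := by
  have heq : ({S.L, S.L'} : Set (Set (Sylow 3 G))) = orbit (stabilizer G S.P) S.L := by
    refine Set.eq_of_subset_of_ncard_le ?_ ?_ (Set.toFinite _)
    · rintro _ (rfl | rfl)
      · exact mem_orbit_self _
      · exact ⟨⟨S.v, S.v_P⟩, rfl⟩
    · have h := card_eq_orbit_mul (stabilizer G S.P) S.L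
      rw [inf_comm, S.card_K1, show Nat.card (stabilizer G S.P) = 144 by
        rw [Sylow.stabilizer_eq_normalizer]; exact S.card_N] at h
      rw [Set.ncard_pair S.L'_ne.symm]
      omega
  obtain ⟨g, rfl⟩ := hM
  obtain ⟨Y, hY, hgY⟩ := hPM
  rw [← S.orbit_stab_L] at hY
  obtain ⟨h, rfl⟩ := hY
  have hmem : g • S.L ∈ orbit (stabilizer G S.P) S.L := by
    refine ⟨⟨g * h, ?_⟩, ?_⟩
    · show (g * (h : G)) • S.P = S.P
      rw [mul_smul]; exact hgY
    · show (g * (h : G)) • S.L = g • S.L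
      rw [mul_smul, show (h : G) • S.L = S.L from h.2]
  rw [← heq] at hmem
  exact hmem

theorem P_free {p : G} (hp : p ∈ (S.P : Subgroup G)) {M : Set (Sylow 3 G)}
    (hM : M ∈ orbit G S.L) (hne : M ≠ S.L) (hne' : M ≠ S.L') (hfix : p • M = M) : p = 1 := by
  have hM' : M ∈ orbit G S.L \ {S.L} := ⟨hM, hne⟩
  rw [← S.orbit_stab_L'] at hM'
  obtain ⟨h, rfl⟩ := hM'
  have hI : S.L ∩ (h : G) • S.L' = {(h : G) • S.P} := by
    rw [← Set.smul_set_singleton, ← S.inter_eq, Set.smul_set_inter,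
      show (h : G) • S.L = S.L from h.2]
  have hYL : (h : G) • S.P ∈ S.L := (hI.symm ▸ Set.mem_singleton _ :
    (h : G) • S.P ∈ S.L ∩ (h : G) • S.L').1
  have hpY : p • (h : G) • S.P = (h : G) • S.P := by
    have e : p • (S.L ∩ (h : G) • S.L') = S.L ∩ (h : G) • S.L' := by
      rw [Set.smul_set_inter, S.smul_P_L hp]
      exact congrArg (S.L ∩ ·) hfix
    rw [hI, Set.smul_set_singleton, Set.singleton_eq_singleton_iff] at e
    exact e
  rcases hYL with e | ⟨q, hq, e⟩
  · exfalso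
    have hP : S.P ∈ S.L ∩ (h : G) • S.L' := by rw [hI, e]; exact Set.mem_singleton _
    rcases S.through_P hM hP.2 with e' | e'
    exacts [hne e', hne' e']
  · rw [← e, smul_smul] at hpY
    exact mul_eq_right.mp (S.semiregular (mul_mem hp hq) hq hpY)

theorem mem_L''_orbit : S.L'' ∈ orbit G S.L := mem_orbit _ _

theorem P_orbit : (fun p => p • S.L'') '' ((S.P : Subgroup G) : Set G) =
    orbit G S.L \ {S.L, S.L'} := by
  refine eq_diff_of_card S.finite_orbit ?_ ?_ ?_
  · rintro _ (rfl | rfl)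
    exacts [mem_orbit_self _, mem_orbit _ _]
  · rintro _ ⟨p, hp, rfl⟩
    refine ⟨?_, ?_⟩
    · exact ⟨p * S.k, mul_smul _ _ _⟩
    · rintro (e | e)
      · exact S.L''_ne (smul_left_cancel p (e.trans (S.smul_P_L hp).symm))
      · exact S.L''_ne' (smul_left_cancel p (e.trans (S.smul_P_L' hp).symm))
  · rw [S.ncard_orbit, Set.ncard_pair S.L'_ne.symm, Set.InjOn.ncard_image, ← Nat.card_coe_set_eq,
      show Nat.card ((S.P : Subgroup G) : Set G) = 9 from card_sylow_three_eq S.hG S.P]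
    intro a ha b hb e
    refine (inv_mul_eq_one.mp (S.P_free (mul_mem (inv_mem hb) ha) S.mem_L''_orbit S.L''_ne
      S.L''_ne' ?_)).symm
    rw [mul_smul]
    exact inv_smul_eq_iff.mpr e

/-- An element fixing three of the sets lies in `D`. -/
theorem mem_D_of_fix {g : G} (h1 : g • S.L = S.L) (h2 : g • S.L' = S.L')
    (h3 : g • S.L'' = S.L'') : g ∈ S.D := by
  set K := stabilizer G S.L ⊓ stabilizer G S.L'
  suffices h : S.D = K ⊓ stabilizer G S.L'' by rw [h]; exact ⟨⟨h1, h2⟩, h3⟩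
  refine Subgroup.eq_of_le_of_card_ge
    (fun d hd => ⟨⟨S.smul_D_L hd, S.smul_D_L' hd⟩, S.smul_D_L'' hd⟩) ?_
  have hsub : (fun p => p • S.L'') '' ((S.P : Subgroup G) : Set G) ⊆ orbit K S.L'' := by
    rintro _ ⟨p, hp, rfl⟩
    exact ⟨⟨p, S.smul_P_L hp, S.smul_P_L' hp⟩, rfl⟩
  have hle := Set.ncard_le_ncard hsub (Set.toFinite _)
  have hu : ({S.L, S.L'} : Set (Set (Sylow 3 G))) ⊆ orbit G S.L :=
    Set.insert_subset (mem_orbit_self _) (Set.singleton_subset_iff.mpr (mem_orbit _ _))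
  rw [S.P_orbit, Set.ncard_sdiff hu (Set.toFinite _), S.ncard_orbit,
    Set.ncard_pair S.L'_ne.symm] at hle
  have h := card_eq_orbit_mul K S.L''
  rw [S.card_K] at h
  rw [S.card_D]
  nlinarith

theorem smul_P_fix {p : G} (hp : p ∈ (S.P : Subgroup G)) :
    p⁻¹ • S.L = S.L ∧ p⁻¹ • S.L' = S.L' :=
  ⟨S.smul_P_L (inv_mem hp), S.smul_P_L' (inv_mem hp)⟩

theorem z_smul_P_L'' {p : G} (hp : p ∈ (S.P : Subgroup G)) :
    S.z • p • S.L'' = p⁻¹ • S.L'' := by
  rw [← S.hinv p hp, mul_smul, mul_smul]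
  congr 2
  exact (inv_smul_eq_iff.mpr (S.smul_D_L'' S.z_mem_D).symm).symm

theorem z_fix_iff {M : Set (Sylow 3 G)} (hM : M ∈ orbit G S.L \ {S.L, S.L'}) (h : S.z • M = M) :
    M = S.L'' := by
  rw [← S.P_orbit] at hM
  obtain ⟨p, hp, rfl⟩ := hM
  simp only at h ⊢
  rw [S.z_smul_P_L'' hp] at h
  have e := S.P_free (mul_mem hp hp) S.mem_L''_orbit S.L''_ne S.L''_ne'
    (by rw [mul_smul, ← h, smul_inv_smul])
  have : p = 1 := S.eq_inv_three hp (eq_inv_of_mul_eq_one_left e)
  rw [this, one_smul]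

theorem D_orbit {M : Set (Sylow 3 G)} (hM : M ∈ orbit G S.L \ {S.L, S.L', S.L''}) :
    (fun d => d • M) '' (S.D : Set G) = orbit G S.L \ {S.L, S.L', S.L''} := by
  have h3 : ({S.L, S.L', S.L''} : Set (Set (Sylow 3 G))).ncard = 3 := by
    rw [Set.ncard_insert_of_notMem (by
      rintro (e | e)
      exacts [S.L'_ne e.symm, S.L''_ne e.symm]), Set.ncard_pair S.L''_ne'.symm]
  refine eq_diff_of_card S.finite_orbit ?_ ?_ ?_
  · rintro _ (rfl | rfl | rfl)
    exacts [mem_orbit_self _, mem_orbit _ _, mem_orbit _ _]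
  · rintro _ ⟨d, hd, rfl⟩
    refine ⟨?_, ?_⟩
    · obtain ⟨g, rfl⟩ := hM.1
      exact ⟨d * g, mul_smul _ _ _⟩
    · rintro (e | e | e)
      · exact hM.2 (Or.inl (smul_left_cancel d (e.trans (S.smul_D_L hd).symm)))
      · exact hM.2 (Or.inr (Or.inl (smul_left_cancel d (e.trans (S.smul_D_L' hd).symm))))
      · exact hM.2 (Or.inr (Or.inr (smul_left_cancel d (e.trans (S.smul_D_L'' hd).symm))))
  · rw [S.ncard_orbit, h3, Set.InjOn.ncard_image, ← Nat.card_coe_set_eq,
      show Nat.card (S.D : Set G) = 8 from S.card_D]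
    intro a ha b hb e
    refine (inv_mul_eq_one.mp ?_).symm
    by_contra hne
    have hfix : (b⁻¹ * a) • M = M := by rw [mul_smul]; exact inv_smul_eq_iff.mpr e
    have hz : S.z • M = M :=
      (zpowers_le.mpr (show b⁻¹ * a ∈ stabilizer G M from hfix))
        (S.z_mem_zpowers (mul_mem (inv_mem hb) ha) hne)
    exact hM.2 (Or.inr (Or.inr (S.z_fix_iff ⟨hM.1, fun h => hM.2 (h.elim Or.inl
      fun h => Or.inr (Or.inl h))⟩ hz)))

end Setup

end Cfsg.Agent.Lib.Recog7920
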