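import Mathlib
import Cfsg.Prelude.Def_Sporadic
import Cfsg.Prelude.Def_Sporadic_a
import Cfsg.Agent.Lib.Design.SmallWitt.Aut

/-!
A group of order 7920 sharply 4-transitive on eleven points, with a compatible choice of
involutions, is the automorphism group of a Steiner system `S(4, 5, 11)`.
-/

set_option autoImplicit false

namespace Cfsg.Agent.Lib.Recog7920

open Cfsg MulAction
open scoped Pointwise

universe u w

/-- A base for an action with the local properties of the action on eleven points. -/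
structure Sharp (G : Type u) (X : Type w) [Group G] [MulAction G X] where
  x₀ : X
  x₁ : X
  x₂ : X
  ne01 : x₀ ≠ x₁
  ne02 : x₀ ≠ x₂
  ne12 : x₁ ≠ x₂
  z : G
  hz : orderOf z = 2
  z0 : z • x₀ = x₀
  z1 : z • x₁ = x₁
  z2 : z • x₂ = x₂
  t1 : ∀ a : X, ∃ g : G, g • x₀ = a
  t2 : ∀ b : X, b ≠ x₀ → ∃ g : G, g • x₀ = x₀ ∧ g • x₁ = b
  t3 : ∀ c : X, c ≠ x₀ → c ≠ x₁ → ∃ g : G, g • x₀ = x₀ ∧ g • x₁ = x₁ ∧ g • x₂ = c
  t4 : ∀ c d : X, c ≠ x₀ → c ≠ x₁ → c ≠ x₂ → d ≠ x₀ → d ≠ x₁ → d ≠ x₂ →
    ∃ g : G, g • x₀ = x₀ ∧ g • x₁ = x₁ ∧ g • x₂ = x₂ ∧ g • c = d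
  uniq : ∀ g : G, orderOf g = 2 → g • x₀ = x₀ → g • x₁ = x₁ → g • x₂ = x₂ → g = z
  swap : ∀ y : X, y ≠ x₀ → y ≠ x₁ → y ≠ x₂ → ∃ z' : G, orderOf z' = 2 ∧ z' • x₀ = x₀ ∧
    z' • x₁ = x₁ ∧ z' • y = y ∧ z' • x₂ = z • y

variable {G : Type u} {X : Type w} [Group G] [MulAction G X]

namespace Sharp

variable (S : Sharp G X)

theorem orderOf_conj (g u : G) : orderOf (g * u * g⁻¹) = orderOf u := by
  rw [show g * u * g⁻¹ = MulAut.conj g u from rfl, MulEquiv.orderOf_eq]

theorem conj_fix {g u : G} {x y : X} (h : u • x = y) : (g * u * g⁻¹) • (g • x) = g • y := by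
  rw [mul_smul, mul_smul, inv_smul_smul, h]

theorem conj_inv_fix {g u : G} {x y : X} (h : u • g • x = g • y) : (g⁻¹ * u * g) • x = y := by
  rw [mul_smul, mul_smul, h, inv_smul_smul]

theorem triple {a b c : X} (hab : a ≠ b) (hac : a ≠ c) (hbc : b ≠ c) :
    ∃ g : G, g • S.x₀ = a ∧ g • S.x₁ = b ∧ g • S.x₂ = c := by
  obtain ⟨g, hg⟩ := S.t1 a
  obtain ⟨h, h0, h1⟩ := S.t2 (g⁻¹ • b) fun e => hab (by rw [← hg, ← e, smul_inv_smul])
  obtain ⟨k, k0, k1, k2⟩ := S.t3 ((g * h)⁻¹ • c)
    (fun e => hac (by rw [inv_smul_eq_iff, mul_smul, h0, hg] at e; exact e.symm))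
    (fun e => hbc (by rw [inv_smul_eq_iff, mul_smul, h1, smul_inv_smul] at e; exact e.symm))
  refine ⟨g * h * k, ?_, ?_, ?_⟩
  · rw [mul_smul, mul_smul, k0, h0, hg]
  · rw [mul_smul, mul_smul, k1, h1, smul_inv_smul]
  · rw [mul_smul, k2, smul_inv_smul]

include S in
theorem inv_unique {a b c : X} (hab : a ≠ b) (hac : a ≠ c) (hbc : b ≠ c) {u u' : G}
    (hu : orderOf u = 2) (hu' : orderOf u' = 2) (ha : u • a = a) (hb : u • b = b) (hc : u • c = c)
    (ha' : u' • a = a) (hb' : u' • b = b) (hc' : u' • c = c) : u = u' := by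
  obtain ⟨g, rfl, rfl, rfl⟩ := S.triple hab hac hbc
  have key : ∀ v : G, orderOf v = 2 → v • g • S.x₀ = g • S.x₀ → v • g • S.x₁ = g • S.x₁ →
      v • g • S.x₂ = g • S.x₂ → v = g * S.z * g⁻¹ := by
    intro v hv h0 h1 h2
    rw [← S.uniq (g⁻¹ * v * g) (by simpa using (orderOf_conj g⁻¹ v).trans hv) (conj_inv_fix h0)
      (conj_inv_fix h1) (conj_inv_fix h2)]
    group
  rw [key u hu ha hb hc, key u' hu' ha' hb' hc']

include S in
theorem exists_inv {a b c : X} (hab : a ≠ b) (hac : a ≠ c) (hbc : b ≠ c) :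
    ∃ u : G, orderOf u = 2 ∧ u • a = a ∧ u • b = b ∧ u • c = c := by
  obtain ⟨g, rfl, rfl, rfl⟩ := S.triple hab hac hbc
  exact ⟨g * S.z * g⁻¹, (orderOf_conj g _).trans S.hz, conj_fix S.z0, conj_fix S.z1, conj_fix S.z2⟩

include S in
/-- The symmetry of the involutions. -/
theorem swap_inv {a b x y : X} (hab : a ≠ b) (hax : a ≠ x) (hbx : b ≠ x) (hya : y ≠ a)
    (hyb : y ≠ b) (hyx : y ≠ x) {u : G} (hu : orderOf u = 2) (ha : u • a = a) (hb : u • b = b)
    (hx : u • x = x) :
    ∃ u' : G, orderOf u' = 2 ∧ u' • a = a ∧ u' • b = b ∧ u' • y = y ∧ u' • x = u • y := by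
  obtain ⟨g, h0, h1, h2⟩ := S.triple hab hax hbx
  have hug : u = g * S.z * g⁻¹ := by
    refine S.inv_unique hab hax hbx hu ((orderOf_conj g _).trans S.hz) ha hb hx ?_ ?_ ?_
    · rw [← h0]; exact conj_fix S.z0
    · rw [← h1]; exact conj_fix S.z1
    · rw [← h2]; exact conj_fix S.z2
  obtain ⟨z', hz', e0, e1, ey, e2⟩ := S.swap (g⁻¹ • y)
    (fun e => hya (by rw [← h0, ← e, smul_inv_smul]))
    (fun e => hyb (by rw [← h1, ← e, smul_inv_smul]))
    (fun e => hyx (by rw [← h2, ← e, smul_inv_smul]))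
  refine ⟨g * z' * g⁻¹, (orderOf_conj g _).trans hz', ?_, ?_, ?_, ?_⟩
  · rw [← h0]; exact conj_fix e0
  · rw [← h1]; exact conj_fix e1
  · conv_lhs => rw [mul_smul, mul_smul, ey, smul_inv_smul]
  · rw [hug, ← h2, conj_fix e2]
    simp only [mul_smul]

variable [Finite G] [Finite X]

include S in
theorem eq_one_of_fix (hG : Nat.card G = 7920) (hX : Nat.card X = 11) {g : G} {v : Fin 4 → X}
    (hv : Function.Injective v) (h : ∀ i, g • v i = v i) : g = 1 := by
  classical
  haveI := Fintype.ofFinite G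
  haveI := Fintype.ofFinite X
  rw [Nat.card_eq_fintype_card] at hG hX
  obtain ⟨d, hd⟩ : ∃ d : X, d ∉ ({S.x₀, S.x₁, S.x₂} : Finset X) := by
    by_contra hc
    push Not at hc
    have := (Finset.card_le_card fun x (_ : x ∈ Finset.univ) => hc x).trans Finset.card_le_three
    rw [Finset.card_univ, hX] at this
    omega
  simp only [Finset.mem_insert, Finset.mem_singleton, not_or] at hd
  let base : Fin 4 ↪ X := ⟨![S.x₀, S.x₁, S.x₂, d], by
    intro i j hij
    fin_cases i <;> fin_cases j <;>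
      simp [S.ne01, S.ne01.symm, S.ne02, S.ne02.symm, S.ne12, S.ne12.symm, hd.1, hd.2.1, hd.2.2,
        Ne.symm hd.1, Ne.symm hd.2.1, Ne.symm hd.2.2] at hij ⊢⟩
  let F : G → (Fin 4 ↪ X) := fun g => g • base
  have hsurj : Function.Surjective F := by
    intro v
    have hne : ∀ i j : Fin 4, i ≠ j → v i ≠ v j := fun i j hij e => hij (v.injective e)
    obtain ⟨g, g0, g1, g2⟩ := S.triple (hne 0 1 (by decide)) (hne 0 2 (by decide))
      (hne 1 2 (by decide))
    obtain ⟨k, k0, k1, k2, k3⟩ := S.t4 d (g⁻¹ • v 3) hd.1 hd.2.1 hd.2.2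
      (fun e => hne 3 0 (by decide) (by rw [← g0, ← e, smul_inv_smul]))
      (fun e => hne 3 1 (by decide) (by rw [← g1, ← e, smul_inv_smul]))
      (fun e => hne 3 2 (by decide) (by rw [← g2, ← e, smul_inv_smul]))
    refine ⟨g * k, Function.Embedding.ext fun i => ?_⟩
    show (g * k) • base i = v i
    fin_cases i
    · show (g * k) • S.x₀ = v 0
      rw [mul_smul, k0, g0]
    · show (g * k) • S.x₁ = v 1
      rw [mul_smul, k1, g1]
    · show (g * k) • S.x₂ = v 2
      rw [mul_smul, k2, g2]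
    · show (g * k) • d = v 3
      rw [mul_smul, k3, smul_inv_smul]
  have hcard : Fintype.card G = Fintype.card (Fin 4 ↪ X) := by
    rw [Fintype.card_embedding_eq, hX, hG, Fintype.card_fin]; rfl
  have hbij := (Fintype.bijective_iff_surjective_and_card F).mpr ⟨hsurj, hcard⟩
  obtain ⟨k, hk⟩ := hsurj ⟨v, hv⟩
  have hkv : ∀ i, k • base i = v i := fun i => DFunLike.congr_fun hk i
  have : g * k = k := hbij.1 (Function.Embedding.ext fun i => by
    show (g * k) • base i = k • base i
    rw [mul_smul, hkv, h])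
  exact mul_eq_right.mp this

end Sharp

/-- Five points of a block, in some order. -/
def Rel (G : Type u) {X : Type w} [Group G] [MulAction G X] (v : Fin 5 → X) : Prop :=
  Function.Injective v ∧ ∃ u : G, orderOf u = 2 ∧ u • v 0 = v 0 ∧ u • v 1 = v 1 ∧ u • v 2 = v 2 ∧
    u • v 3 = v 4

theorem rel_perm (S : Sharp G X) {v : Fin 5 → X} (hv : Rel G v) (σ : Equiv.Perm (Fin 5)) :
    Rel G (v ∘ σ) := by
  have hσ : σ ∈ Submonoid.closure (Set.range fun i : Fin 4 ↦ Equiv.swap i.castSucc i.succ) := by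
    rw [Equiv.Perm.mclosure_swap_castSucc_succ]; trivial
  induction hσ using Submonoid.closure_induction generalizing v with
  | one => exact hv
  | mul a b _ _ ha hb => exact hb (ha hv)
  | mem x hx =>
    obtain ⟨i, rfl⟩ := hx
    obtain ⟨hinj, u, hu, h0, h1, h2, h3⟩ := hv
    have hne : ∀ a b : Fin 5, a ≠ b → v a ≠ v b := fun a b hab e => hab (hinj e)
    refine ⟨hinj.comp (Equiv.injective _), ?_⟩
    fin_cases i
    · exact ⟨u, hu, by simpa using h1, by simpa using h0, by simpa [Equiv.swap_apply_def] using h2,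
        by simpa [Equiv.swap_apply_def] using h3⟩
    · exact ⟨u, hu, by simpa [Equiv.swap_apply_def] using h0, by simpa [Equiv.swap_apply_def] using h2,
        by simpa [Equiv.swap_apply_def] using h1, by simpa [Equiv.swap_apply_def] using h3⟩
    · obtain ⟨u', hu', e0, e1, e3, e2⟩ := S.swap_inv (hne 0 1 (by decide)) (hne 0 2 (by decide))
        (hne 1 2 (by decide)) (hne 3 0 (by decide)) (hne 3 1 (by decide)) (hne 3 2 (by decide))
        hu h0 h1 h2
      exact ⟨u', hu', by simpa [Equiv.swap_apply_def] using e0,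
        by simpa [Equiv.swap_apply_def] using e1, by simpa [Equiv.swap_apply_def] using e3,
        by simpa [Equiv.swap_apply_def] using e2.trans h3⟩
    · have hu2 : u * u = 1 := by
        rw [← pow_two, ← hu, pow_orderOf_eq_one]
      have h4 : u • v 4 = v 3 := by rw [← h3, smul_smul, hu2, one_smul]
      exact ⟨u, hu, by simpa [Equiv.swap_apply_def] using h0,
        by simpa [Equiv.swap_apply_def] using h1, by simpa [Equiv.swap_apply_def] using h2,
        by simpa [Equiv.swap_apply_def] using h4⟩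

/-- The blocks. -/
def blocks (G : Type u) (X : Type w) [Group G] [MulAction G X] [DecidableEq X] : Set (Finset X) :=
  {b | ∃ v : Fin 5 → X, Rel G v ∧ Finset.univ.image v = b}

theorem blocks_steiner [Finite G] [Finite X] [DecidableEq X] (S : Sharp G X)
    (hG : Nat.card G = 7920) (hX : Nat.card X = 11) : IsSteinerSystem 4 5 (blocks G X) := by
  refine ⟨?_, ?_⟩
  · rintro b ⟨v, ⟨hv, -⟩, rfl⟩
    rw [Finset.card_image_of_injective _ hv, Finset.card_univ, Fintype.card_fin]
  intro s hs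
  obtain ⟨w, hw, hws⟩ : ∃ w : Fin 4 → X, Function.Injective w ∧ Finset.univ.image w = s := by
    let e := (Finset.equivFinOfCardEq hs).symm
    refine ⟨fun i => (e i).1, Subtype.val_injective.comp e.injective, ?_⟩
    ext x
    simp only [Finset.mem_image, Finset.mem_univ, true_and]
    exact ⟨fun ⟨i, hi⟩ => hi ▸ (e i).2, fun hx => ⟨e.symm ⟨x, hx⟩, by simp⟩⟩
  subst hws
  have hne : ∀ a b : Fin 4, a ≠ b → w a ≠ w b := fun a b hab e => hab (hw e)
  obtain ⟨u, hu, u0, u1, u2⟩ := S.exists_inv (hne 0 1 (by decide)) (hne 0 2 (by decide))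
    (hne 1 2 (by decide))
  set v : Fin 5 → X := Fin.snoc w (u • w 3) with hv
  have hvinj : Function.Injective v := by
    refine Fin.snoc_injective_of_injective hw ?_
    rintro ⟨i, hi⟩
    fin_cases i
    · exact hne 0 3 (by decide) (smul_left_cancel u (u0.trans hi))
    · exact hne 1 3 (by decide) (smul_left_cancel u (u1.trans hi))
    · exact hne 2 3 (by decide) (smul_left_cancel u (u2.trans hi))
    · have h1 : u = 1 := S.eq_one_of_fix hG hX hw fun j => by
        fin_cases j
        exacts [u0, u1, u2, hi.symm]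
      rw [h1, orderOf_one] at hu
      omega
  have hRel : Rel G v := ⟨hvinj, u, hu, u0, u1, u2, rfl⟩
  refine ⟨Finset.univ.image v, ⟨⟨v, hRel, rfl⟩, ?_⟩, ?_⟩
  · intro x hx
    obtain ⟨i, -, rfl⟩ := Finset.mem_image.mp hx
    exact Finset.mem_image.mpr ⟨i.castSucc, Finset.mem_univ _, by rw [hv, Fin.snoc_castSucc]⟩
  · rintro _ ⟨⟨v', hv', rfl⟩, hsub⟩
    have hj : ∀ i, ∃ k, v' k = w i := fun i => by
      obtain ⟨k, -, hk⟩ := Finset.mem_image.mp (hsub (Finset.mem_image.mpr ⟨i, Finset.mem_univ _, rfl⟩))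
      exact ⟨k, hk⟩
    choose j hjw using hj
    have hjinj : Function.Injective j := fun a b e => hw (by rw [← hjw, ← hjw, e])
    obtain ⟨m, hm⟩ : ∃ m : Fin 5, m ∉ Set.range j := by
      by_contra hc
      push Not at hc
      have := Fintype.card_le_of_surjective j hc
      simp at this
    let σ : Equiv.Perm (Fin 5) :=
      Equiv.ofBijective (Fin.snoc j m) (Finite.injective_iff_bijective.mp
        (Fin.snoc_injective_of_injective hjinj hm))
    obtain ⟨hi, u', hu', e0, e1, e2, e3⟩ := rel_perm S hv' σ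
    have hcs : ∀ i : Fin 4, (v' ∘ σ) i.castSucc = w i := fun i => by
      show v' ((Fin.snoc j m : Fin 5 → Fin 5) i.castSucc) = w i
      rw [Fin.snoc_castSucc, hjw]
    have w0 : (v' ∘ σ) 0 = w 0 := hcs 0
    have w1 : (v' ∘ σ) 1 = w 1 := hcs 1
    have w2 : (v' ∘ σ) 2 = w 2 := hcs 2
    have w3 : (v' ∘ σ) 3 = w 3 := hcs 3
    rw [w0] at e0; rw [w1] at e1; rw [w2] at e2; rw [w3] at e3
    have huu : u' = u := S.inv_unique (hne 0 1 (by decide)) (hne 0 2 (by decide))
      (hne 1 2 (by decide)) hu' hu e0 e1 e2 u0 u1 u2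
    subst huu
    have heq : v' ∘ σ = v := by
      funext i
      induction i using Fin.lastCases with
      | last => rw [hv, Fin.snoc_last]; exact e3.symm
      | cast i => rw [hv, Fin.snoc_castSucc]; exact hcs i
    rw [← heq, ← Finset.image_image, Finset.image_univ_of_surjective σ.surjective]

theorem smul_blocks [DecidableEq X] (g : G) {b : Finset X} (hb : b ∈ blocks G X) :
    b.image (toPerm g) ∈ blocks G X := by
  obtain ⟨v, ⟨hv, u, hu, h0, h1, h2, h3⟩, rfl⟩ := hb
  refine ⟨fun i => g • v i, ⟨(MulAction.injective g).comp hv, g * u * g⁻¹,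
    (Sharp.orderOf_conj g u).trans hu, Sharp.conj_fix h0, Sharp.conj_fix h1, Sharp.conj_fix h2,
    Sharp.conj_fix h3⟩, ?_⟩
  rw [Finset.image_image]
  rfl

/-- The group is the automorphism group of the blocks. -/
theorem nonempty_equiv_aut [Finite G] [Fintype X] [DecidableEq X] (S : Sharp G X)
    (hG : Nat.card G = 7920) (hX : Fintype.card X = 11) :
    Nonempty (G ≃* setSystemAut (blocks G X)) := by
  have hX' : Nat.card X = 11 := by rw [Nat.card_eq_fintype_card, hX]
  have hB := blocks_steiner S hG hX'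
  let f : G →* setSystemAut (blocks G X) := (MulAction.toPermHom G X).codRestrict _ fun g =>
    Cfsg.Agent.Lib.WittAut.mem_aut_iff.mpr fun b hb => smul_blocks g hb
  have hf : Function.Injective f := by
    refine (injective_iff_map_eq_one f).mpr fun g hg => ?_
    have h : ∀ x : X, g • x = x := fun x =>
      DFunLike.congr_fun (congrArg Subtype.val hg) x
    obtain ⟨e⟩ := Function.Embedding.nonempty_of_card_le (α := Fin 4) (β := X)
      (by rw [Fintype.card_fin, hX]; norm_num)
    exact S.eq_one_of_fix hG hX' e.injective fun i => h _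
  exact ⟨MulEquiv.ofBijective f ((Nat.bijective_iff_injective_and_card f).mpr
    ⟨hf, hG.trans (Design.SmallWitt.result11 hX hB).1.2.symm⟩)⟩

/-- Automorphism groups of isomorphic families are isomorphic. -/
theorem nonempty_aut_equiv {α β : Type*} [Fintype α] [DecidableEq α] [Fintype β] [DecidableEq β]
    {B : Set (Finset α)} {B' : Set (Finset β)} (h : SetSystemIso B B')
    (hc : Nat.card (setSystemAut B) = Nat.card (setSystemAut B')) :
    Nonempty (setSystemAut B ≃* setSystemAut B') := by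
  obtain ⟨e, he⟩ := h
  let f : setSystemAut B →* setSystemAut B' :=
    (e.permCongrHom.toMonoidHom.comp (setSystemAut B).subtype).codRestrict _ fun σ => by
      rw [Cfsg.Agent.Lib.WittAut.mem_aut_iff, ← he]
      rintro _ ⟨s, hs, rfl⟩
      refine ⟨_, Cfsg.Agent.Lib.WittAut.mem_aut_iff.mp σ.2 s hs, ?_⟩
      simp only [Finset.image_image]
      exact Finset.image_congr fun x _ => by simp [Equiv.permCongrHom, Equiv.permCongr_apply]
  have hf : Function.Injective f := fun a b hab =>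
    Subtype.ext (e.permCongrHom.injective (congrArg Subtype.val hab))
  exact ⟨MulEquiv.ofBijective f ((Nat.bijective_iff_injective_and_card f).mpr ⟨hf, hc⟩)⟩

end Cfsg.Agent.Lib.Recog7920
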