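import Mathlib
import Cfsg.Agent.Lib.Recog7920.Lines
import Cfsg.Agent.Lib.Recog7920.Steiner

/-!
All simple groups of order 7920 are isomorphic.
-/

set_option autoImplicit false
set_option linter.style.haveILetI false

namespace Cfsg.Agent.Lib.Recog7920

open Subgroup MulAction Cfsg Cfsg.Agent.Lib.SmallGroups Cfsg.Agent.Lib.Order7920
open scoped Pointwise

universe u w

variable {G : Type u} [Group G] [Finite G] [Fact (Nat.Prime 3)]

namespace Setup

variable (S : Setup G)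

/-- The base of the action on the eleven sets. -/
theorem nonempty_sharp : Nonempty (Sharp G ↥(orbit G S.L)) := by
  have mem3 : ∀ {M : ↥(orbit G S.L)}, M ≠ ⟨S.L, mem_orbit_self _⟩ → M ≠ ⟨S.L', mem_orbit _ _⟩ →
      M ≠ ⟨S.L'', mem_orbit _ _⟩ → M.1 ∈ orbit G S.L \ {S.L, S.L', S.L''} :=
    fun {M} h0 h1 h2 => ⟨M.2, by
      rintro (e | e | e)
      exacts [h0 (Subtype.ext e), h1 (Subtype.ext e), h2 (Subtype.ext e)]⟩
  refine ⟨
    { x₀ := ⟨S.L, mem_orbit_self _⟩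
      x₁ := ⟨S.L', mem_orbit _ _⟩
      x₂ := ⟨S.L'', mem_orbit _ _⟩
      ne01 := fun h => S.L'_ne (congrArg Subtype.val h).symm
      ne02 := fun h => S.L''_ne (congrArg Subtype.val h).symm
      ne12 := fun h => S.L''_ne' (congrArg Subtype.val h).symm
      z := S.z
      hz := S.hz
      z0 := Subtype.ext (S.smul_D_L S.z_mem_D)
      z1 := Subtype.ext (S.smul_D_L' S.z_mem_D)
      z2 := Subtype.ext (S.smul_D_L'' S.z_mem_D)
      t1 := ?_, t2 := ?_, t3 := ?_, t4 := ?_, uniq := ?_, swap := ?_ }⟩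
  · rintro ⟨a, g, rfl⟩
    exact ⟨g, rfl⟩
  · rintro ⟨b, hb⟩ hne
    have hb' : b ∈ orbit G S.L \ {S.L} := ⟨hb, fun e => hne (Subtype.ext e)⟩
    rw [← S.orbit_stab_L'] at hb'
    obtain ⟨h, rfl⟩ := hb'
    exact ⟨h, Subtype.ext h.2, Subtype.ext rfl⟩
  · rintro ⟨c, hc⟩ h0 h1
    have hc' : c ∈ orbit G S.L \ {S.L, S.L'} :=
      ⟨hc, fun e => e.elim (fun e => h0 (Subtype.ext e)) fun e => h1 (Subtype.ext e)⟩
    rw [← S.P_orbit] at hc'
    obtain ⟨p, hp, rfl⟩ := hc'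
    exact ⟨p, Subtype.ext (S.smul_P_L hp), Subtype.ext (S.smul_P_L' hp), Subtype.ext rfl⟩
  · intro c d c0 c1 c2 d0 d1 d2
    have hd := mem3 d0 d1 d2
    rw [← S.D_orbit (mem3 c0 c1 c2)] at hd
    obtain ⟨g, hg, hgd⟩ := hd
    exact ⟨g, Subtype.ext (S.smul_D_L hg), Subtype.ext (S.smul_D_L' hg),
      Subtype.ext (S.smul_D_L'' hg), Subtype.ext hgd⟩
  · intro g hg h0 h1 h2
    have hgD := S.mem_D_of_fix (congrArg Subtype.val h0) (congrArg Subtype.val h1)
      (congrArg Subtype.val h2)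
    have hg1 : g ≠ 1 := fun h => by rw [h, orderOf_one] at hg; omega
    obtain ⟨i, hi⟩ := mem_zpowers_iff.mp (S.z_mem_zpowers hgD hg1)
    rw [← zpow_mod_orderOf, hg] at hi
    rcases Int.emod_two_eq i with h | h <;> rw [show ((2 : ℕ) : ℤ) = 2 from rfl, h] at hi
    · have := S.hz
      rw [← hi, zpow_zero, orderOf_one] at this
      omega
    · rw [← hi, zpow_one]
  · rintro ⟨y, hy⟩ h0 h1 -
    have hy' : y ∈ orbit G S.L \ {S.L, S.L'} :=
      ⟨hy, fun e => e.elim (fun e => h0 (Subtype.ext e)) fun e => h1 (Subtype.ext e)⟩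
    rw [← S.P_orbit] at hy'
    obtain ⟨p, hp, rfl⟩ := hy'
    have hzL := S.smul_D_L S.z_mem_D
    have hzL' := S.smul_D_L' S.z_mem_D
    have hzL'' := S.smul_D_L'' S.z_mem_D
    obtain ⟨hpL, hpL'⟩ := S.smul_P_fix hp
    refine ⟨p * S.z * p⁻¹, ?_, Subtype.ext ?_, Subtype.ext ?_, Subtype.ext ?_, Subtype.ext ?_⟩
    · rw [show p * S.z * p⁻¹ = MulAut.conj p S.z from rfl, MulEquiv.orderOf_eq, S.hz]
    · show (p * S.z * p⁻¹) • S.L = S.L
      rw [mul_smul, mul_smul, hpL, hzL, S.smul_P_L hp]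
    · show (p * S.z * p⁻¹) • S.L' = S.L'
      rw [mul_smul, mul_smul, hpL', hzL', S.smul_P_L' hp]
    · show (p * S.z * p⁻¹) • p • S.L'' = p • S.L''
      rw [mul_smul, mul_smul, inv_smul_smul, hzL'']
    · show (p * S.z * p⁻¹) • S.L'' = S.z • p • S.L''
      rw [mul_smul, mul_smul, S.z_smul_P_L'' hp]
      have e := S.z_smul_P_L'' (inv_mem hp)
      rw [e, inv_inv, ← mul_smul]
      congr 1
      have h3 : p ^ 3 = 1 := by
        by_cases hp1 : p = 1
        · rw [hp1, one_pow]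
        · rw [← orderOf_eq_three S.hG hp hp1, pow_orderOf_eq_one]
      rw [eq_inv_iff_mul_eq_one, ← h3, pow_succ, pow_two]

end Setup

theorem exists_witt {H : Type u} [Group H] [Finite H] (hH : IsM11 H) :
    ∃ (X : Type u) (_ : Fintype X) (_ : DecidableEq X) (B : Set (Finset X)),
      Fintype.card X = 11 ∧ IsSteinerSystem 4 5 B ∧ Nonempty (H ≃* setSystemAut B) := by
  classical
  haveI : Fact (Nat.Prime 3) := ⟨Nat.prime_three⟩
  obtain ⟨S, -⟩ := exists_setup hH default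
  obtain ⟨T⟩ := S.nonempty_sharp
  haveI : Fintype ↥(orbit H S.L) := Fintype.ofFinite _
  have hX : Fintype.card ↥(orbit H S.L) = 11 := by
    rw [← Nat.card_eq_fintype_card, Nat.card_coe_set_eq, S.ncard_orbit]
  exact ⟨↥(orbit H S.L), inferInstance, inferInstance, blocks H _, hX,
    blocks_steiner T hH.2 (by rw [Nat.card_eq_fintype_card, hX]), nonempty_equiv_aut T hH.2 hX⟩

/-- The smallest Mathieu group is determined by its order among simple groups. -/
theorem nonempty_mulEquiv {H : Type u} {K : Type w} [Group H] [Finite H] [Group K] [Finite K]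
    (hH : IsM11 H) (hK : IsM11 K) : Nonempty (H ≃* K) := by
  obtain ⟨X, iX, dX, B, hX, hB, ⟨e⟩⟩ := exists_witt hH
  obtain ⟨Y, iY, dY, B', hY, hB', ⟨e'⟩⟩ := exists_witt hK
  have hc : Nat.card (setSystemAut B) = Nat.card (setSystemAut B') := by
    rw [← Nat.card_congr e.toEquiv, ← Nat.card_congr e'.toEquiv, hH.2, hK.2]
  obtain ⟨f⟩ := nonempty_aut_equiv (Design.SmallWitt11.unique hX hY hB hB') hc
  exact ⟨e.trans (f.trans e'.symm)⟩

end Cfsg.Agent.Lib.Recog7920
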